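import Mathlib.Combinatorics.Nullstellensatz
import Mathlib.RingTheory.MvPolynomial.WeightedHomogeneous
import Mathlib.Algebra.MvPolynomial.Funext
import Mathlib.FieldTheory.Finite.Basic

/-!
# The top form of a polynomial vanishing on rational points

`k ⊆ K` fields, `F ∈ K[y₁, …, yₙ]` vanishing on `kⁿ`, `D` at least all weights of `F` for some positive
weights.  Then the component of weight `D` of `F` is in the ideal `(y₁ ^ q, …, yₙ ^ q)` if `k` has `q`
elements, and `0` if `k` is infinite.
-/

set_option autoImplicit false
set_option linter.unusedSectionVars false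
universe u

open MvPolynomial

namespace Groth.Agent.RedSub.H662.Comb

/-- reduction of exponents: `t ^ m = t ^ (rd q m)` for `t` in the field with `q` elements. -/
def rd (q m : ℕ) : ℕ := if m = 0 then 0 else (m - 1) % (q - 1) + 1

lemma rd_le (q m : ℕ) : rd q m ≤ m := by
  unfold rd
  split_ifs with h
  · omega
  · have := Nat.mod_le (m - 1) (q - 1)
    omega

lemma rd_lt {q : ℕ} (hq : 2 ≤ q) (m : ℕ) : rd q m < q := by
  unfold rd
  split_ifs with h
  · omega
  · have := Nat.mod_lt (m - 1) (show 0 < q - 1 by omega)
    omega

lemma rd_of_lt {q m : ℕ} (h : m < q) : rd q m = m := by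
  unfold rd
  split_ifs with h0
  · exact h0.symm
  · rw [Nat.mod_eq_of_lt (by omega)]
    omega

lemma pow_rd {k : Type*} [Field k] [Fintype k] (t : k) (m : ℕ) :
    t ^ rd (Fintype.card k) m = t ^ m := by
  unfold rd
  split_ifs with h
  · rw [h]
  · by_cases ht : t = 0
    · rw [ht, zero_pow (by omega), zero_pow h]
    · have h1 := FiniteField.pow_card_sub_one_eq_one t ht
      have h2 : t ^ (m - 1) = t ^ ((m - 1) % (Fintype.card k - 1)) := by
        conv_lhs => rw [← Nat.div_add_mod (m - 1) (Fintype.card k - 1), pow_add, pow_mul, h1,
          one_pow, one_mul]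
      rw [pow_succ, ← h2, ← pow_succ]
      congr 1
      omega

variable {k K : Type*} [Field k] [Field K] [Algebra k K] {σ : Type*} [Fintype σ]

theorem coeff_eq_zero [Fintype k] {w : σ → ℕ} (hw : ∀ i, 0 < w i) {F : MvPolynomial σ K} {D : ℕ}
    (hD : ∀ d ∈ F.support, Finsupp.weight w d ≤ D)
    (hF : ∀ a : σ → k, aeval (fun i => algebraMap k K (a i)) F = 0) {d : σ →₀ ℕ}
    (hd : Finsupp.weight w d = D) (hlt : ∀ i, d i < Fintype.card k) : F.coeff d = 0 := by
  classical
  set q := Fintype.card k with hq
  have hq2 : 2 ≤ q := Fintype.one_lt_card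
  let R : (σ →₀ ℕ) → (σ →₀ ℕ) := fun d => Finsupp.equivFunOnFinite.symm fun i => rd q (d i)
  have hR : ∀ d i, R d i = rd q (d i) := fun d i => rfl
  let F' : MvPolynomial σ K := ∑ e ∈ F.support, monomial (R e) (F.coeff e)
  have hF' : F' = 0 := by
    refine eq_zero_of_eval_zero_at_prod_finset F'
      (fun _ => Finset.univ.image (algebraMap k K)) ?_ ?_
    · intro i
      rw [Finset.card_image_of_injective _ (algebraMap k K).injective, Finset.card_univ]
      refine lt_of_le_of_lt (degreeOf_sum_le _ _ _) ?_
      rw [Finset.sup_lt_iff (by change 0 < q; omega)]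
      intro e he
      rw [degreeOf_monomial_eq _ _ (mem_support_iff.mp he), hR]
      exact rd_lt hq2 _
    · intro x hx
      choose a ha using fun i => Finset.mem_image.mp (hx i)
      have h1 : x = fun i => algebraMap k K (a i) := funext fun i => (ha i).2.symm
      have h2 := hF a
      rw [← h1, aeval_eq_eval] at h2
      change eval x F = 0 at h2
      change eval x (∑ e ∈ F.support, monomial (R e) (F.coeff e)) = 0
      rw [← h2, map_sum, eval_eq']
      refine Finset.sum_congr rfl fun e _ => ?_
      rw [eval_monomial, Finsupp.prod_fintype _ _ (fun i => pow_zero _)]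
      congr 1
      refine Finset.prod_congr rfl fun i _ => ?_
      rw [hR, h1]
      simp only
      rw [← map_pow, ← map_pow, pow_rd]
  have h1 : F'.coeff d = F.coeff d := by
    rw [coeff_sum]
    by_cases hmem : d ∈ F.support
    · rw [Finset.sum_eq_single d]
      · rw [coeff_monomial, if_pos]
        ext i
        rw [hR, rd_of_lt (hlt i)]
      · intro e he hne
        rw [coeff_monomial, if_neg]
        intro hRe
        apply hne
        -- `e ≥ d` and the weight of `e` is at most `D`
        have h2 : ∀ i, d i ≤ e i := fun i => by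
          rw [← hRe, hR]
          exact rd_le _ _
        have h3 : Finsupp.weight w e ≤ Finsupp.weight w d := by
          rw [hd]
          exact hD e he
        rw [Finsupp.weight_eq_sum, Finsupp.weight_eq_sum] at h3
        have h4 : ∀ i ∈ Finset.univ, d i • w i ≤ e i • w i := fun i _ => by
          simp only [smul_eq_mul]
          exact Nat.mul_le_mul_right _ (h2 i)
        have h5 := (Finset.sum_eq_sum_iff_of_le h4).mp (le_antisymm (Finset.sum_le_sum h4) h3)
        ext i
        have h6 := h5 i (Finset.mem_univ i)
        simp only [smul_eq_mul] at h6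
        exact (Nat.eq_of_mul_eq_mul_right (hw i) h6).symm
      · exact fun h => absurd hmem h
    · rw [notMem_support_iff.mp hmem]
      refine Finset.sum_eq_zero fun e he => ?_
      rw [coeff_monomial, if_neg]
      intro hRe
      apply hmem
      have h2 : ∀ i, d i ≤ e i := fun i => by
        rw [← hRe, hR]
        exact rd_le _ _
      have h3 : Finsupp.weight w e ≤ Finsupp.weight w d := by
        rw [hd]
        exact hD e he
      rw [Finsupp.weight_eq_sum, Finsupp.weight_eq_sum] at h3
      have h4 : ∀ i ∈ Finset.univ, d i • w i ≤ e i • w i := fun i _ => by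
        simp only [smul_eq_mul]
        exact Nat.mul_le_mul_right _ (h2 i)
      have h5 := (Finset.sum_eq_sum_iff_of_le h4).mp (le_antisymm (Finset.sum_le_sum h4) h3)
      have h7 : d = e := by
        ext i
        have h6 := h5 i (Finset.mem_univ i)
        simp only [smul_eq_mul] at h6
        exact Nat.eq_of_mul_eq_mul_right (hw i) h6
      rw [h7]
      exact he
  rw [← h1, hF', coeff_zero]

/-- **Top forms of polynomials vanishing on rational points.** -/
theorem aeval_top_eq_zero {w : σ → ℕ} (hw : ∀ i, 0 < w i) {F : MvPolynomial σ K} {D : ℕ}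
    (hD : ∀ d ∈ F.support, Finsupp.weight w d ≤ D)
    (hF : ∀ a : σ → k, aeval (fun i => algebraMap k K (a i)) F = 0)
    {B : Type*} [CommRing B] [Algebra K B] (η : σ → B)
    (hη : Finite k → ∀ i, η i ^ Nat.card k = 0) :
    aeval η (weightedHomogeneousComponent w D F) = 0 := by
  classical
  rcases finite_or_infinite k with hk | hk
  · have := Fintype.ofFinite k
    rw [aeval_def, eval₂_eq']
    refine Finset.sum_eq_zero fun d hd => ?_
    rw [mem_support_iff, coeff_weightedHomogeneousComponent] at hd
    rw [coeff_weightedHomogeneousComponent]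
    split_ifs at hd ⊢ with h1
    · by_cases hlt : ∀ i, d i < Fintype.card k
      · exact absurd (coeff_eq_zero hw hD hF h1 hlt) hd
      · push Not at hlt
        obtain ⟨i, hi⟩ := hlt
        have h2 := hη hk i
        rw [Nat.card_eq_fintype_card] at h2
        rw [Finset.prod_eq_zero (Finset.mem_univ i), mul_zero]
        rw [← Nat.sub_add_cancel hi, pow_add, h2, mul_zero]
    · exact absurd rfl hd
  · have h0 : F = 0 := by
      refine funext_set (fun _ => Set.range (algebraMap k K))
        (fun _ => Set.infinite_range_of_injective (algebraMap k K).injective) ?_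
      intro x hx
      choose a ha using fun i => hx i (Set.mem_univ i)
      have h1 : x = fun i => algebraMap k K (a i) := funext fun i => (ha i).symm
      have h2 := hF a
      rw [← h1, aeval_eq_eval] at h2
      rw [map_zero]
      exact h2
    rw [h0, map_zero, map_zero]

end Groth.Agent.RedSub.H662.Comb
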