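import Groth.Agent.RedSub.H662.Homog

/-!
# Minimal words

`K` algebraically closed, `Q` a subgroup of `G(K)` containing the torus and the root groups of weight
`≥ 0` for a dominant cocharacter `μ`: every `g` is `q n_l β` with `q ∈ Q`, `β ∈ B(K)` and `l` a reduced
word all of whose inversions have positive weight.
-/

set_option autoImplicit false
set_option linter.unusedSectionVars false
set_option linter.dupNamespace false
universe u

namespace Groth.Agent.RedSub.H662.Coset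

open Groth.Agent.Sga3B Groth.Agent.Sga3B.Cell Groth.Agent.Sga3B.Word
open Groth.Agent.RedSub.H638.WeylBase Groth.Agent.RedSub.H638.WeylCover
open Panel PosPt Van Step Homog

variable {idx M : Type} [Fintype idx] [AddCommGroup M] [Module.Free ℤ M]
    [Module.Finite ℤ M] {P : RootPairing idx ℤ M (Module.Dual ℤ M)} {b : P.Base}

/-- exchange -/
lemma exchange {l : List idx} (hl : ∀ a ∈ l, a ∈ b.support) {c : idx} (hc : b.IsPos c)
    (h : ¬ b.IsPos ((wp P l).symm c)) :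
    ∃ m₁ d m₂, l = m₁ ++ d :: m₂ ∧ wp P m₁ d = c := by
  induction l generalizing c with
  | nil => exact absurd hc h
  | cons d l ih =>
    by_cases hcd : c = d
    · subst hcd
      exact ⟨[], c, l, rfl, rfl⟩
    · rw [wp_cons_symm] at h
      obtain ⟨m₁, e, m₂, h1, h2⟩ := ih (fun a ha => hl a (List.mem_cons_of_mem _ ha))
        (isPos_refl (hl d List.mem_cons_self) hc hcd) h
      refine ⟨d :: m₁, e, m₂, by rw [h1]; rfl, ?_⟩
      rw [wp_cons, Equiv.Perm.mul_apply, h2, refl_refl]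

lemma red_of_suffix {l : List idx} (hl : ∀ a ∈ l, a ∈ b.support)
    (h : ∀ m a l', l = m ++ a :: l' → b.IsPos ((wp P l').symm a)) : Red b l := by
  induction l with
  | nil => trivial
  | cons a l ih =>
    refine ⟨hl a List.mem_cons_self, h [] a l rfl, ih (fun c hc => hl c (List.mem_cons_of_mem _ hc))
      fun m c l' e => h (a :: m) c l' (by rw [e]; rfl)⟩

lemma exists_of_mem_invl {l : List idx} {c : idx} (hc : c ∈ invl P l) :
    ∃ m₁ a m₂, l = m₁ ++ a :: m₂ ∧ c = wp P m₁ a := by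
  induction l generalizing c with
  | nil => simp [invl] at hc
  | cons a l ih =>
    rw [invl, List.mem_cons, List.mem_map] at hc
    rcases hc with rfl | ⟨d, hd, rfl⟩
    · exact ⟨[], c, l, rfl, rfl⟩
    · obtain ⟨m₁, e, m₂, h1, h2⟩ := ih hd
      exact ⟨a :: m₁, e, m₂, by rw [h1]; rfl, by rw [wp_cons, Equiv.Perm.mul_apply, h2]⟩

variable {K : Type u} [Field K] {A : Type u} [CommRing A] [Algebra K A] [PtGrp K A]
  (E : PinCell P b K A)

/-- `n_{m} n_d n_m⁻¹ ∈ T n_a` if `m d = a` with `a`, `d` simple -/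
lemma conj_nn {m : List idx} (hm : ∀ a ∈ m, a ∈ b.support) {a d : idx} (ha : a ∈ b.support)
    (hd : d ∈ b.support) (h : wp P m d = a) :
    ∃ t : TPt M K, nw E K m * E.nn d K * (nw E K m)⁻¹ = E.i K t * E.nn a K := by
  obtain ⟨r, hr⟩ := conj_nw E hm d
  obtain ⟨r', hr'⟩ := conj_nw E hm (P.reflectionPerm d d)
  rw [h] at hr
  rw [wp_neg, h] at hr'
  have h1 : nw E K m * E.nn d K * (nw E K m)⁻¹ = E.uu a K r *
      E.uu (P.reflectionPerm a a) K (-r') * E.uu a K r := by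
    have e1 := hr (B := K) 1
    have e2 := hr' (B := K) (-1)
    have e3 : (algebraMap K K) (r : K) * 1 = r := by simp
    have e4 : (algebraMap K K) (r' : K) * (-1) = -r' := by simp
    rw [e3] at e1
    rw [e4] at e2
    rw [PinCell.nn, ← e1, ← e2]
    group
  have hrr : (r : K) * r' = 1 := by
    by_contra hne
    have hC : InC E (nw E K m * E.nn d K * (nw E K m)⁻¹) := by
      rw [h1]
      apply InC.mul_bor E _ (uu_mem_Bor E (RootPairing.Base.isPos_of_mem_support ha) _)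
      rw [inC_uu_uu E ha]
      intro h0
      apply hne
      linear_combination -h0
    obtain ⟨v, hv, β, hβ, hvβ⟩ := (inC_iff E).mp hC
    -- conjugation by `n'` maps `U_a` to `U_{-a}`
    obtain ⟨s, hs⟩ : ∃ s : K, (nw E K m * E.nn d K * (nw E K m)⁻¹) * E.uu a K 1 *
        (nw E K m * E.nn d K * (nw E K m)⁻¹)⁻¹ = E.uu (P.reflectionPerm a a) K s := by
      obtain ⟨r₁, hr₁⟩ := conj_nw_inv E hm a
      have hsymm : (wp P m).symm a = d := by rw [← h, Equiv.symm_apply_apply]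
      rw [hsymm] at hr₁
      obtain ⟨r₂, hr₂⟩ := E.nn_conj hd d
      refine ⟨algebraMap K K r' * (algebraMap K K r₂ * (algebraMap K K r₁ * 1)), ?_⟩
      · have e1 : (nw E K m * E.nn d K * (nw E K m)⁻¹) * E.uu a K 1 *
          (nw E K m * E.nn d K * (nw E K m)⁻¹)⁻¹ = nw E K m * (E.nn d K * ((nw E K m)⁻¹ *
            E.uu a K 1 * nw E K m) * (E.nn d K)⁻¹) * (nw E K m)⁻¹ := by group
        rw [e1, hr₁, hr₂, hr']
    have h2 : (nw E K m * E.nn d K * (nw E K m)⁻¹) * E.uu a K 1 =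
        E.uu (P.reflectionPerm a a) K s * (nw E K m * E.nn d K * (nw E K m)⁻¹) := by
      rw [← hs]; group
    rw [hvβ] at h2
    have h3 : β * E.uu a K 1 * β⁻¹ = v⁻¹ * E.uu (P.reflectionPerm a a) K s * v := by
      have h4 : v⁻¹ * (v * β * E.uu a K 1) * β⁻¹ = v⁻¹ *
        (E.uu (P.reflectionPerm a a) K s * (v * β)) * β⁻¹ := by rw [h2]
      calc _ = v⁻¹ * (v * β * E.uu a K 1) * β⁻¹ := by group
        _ = _ := h4
        _ = _ := by group
    have h5 : β * E.uu a K 1 * β⁻¹ = 1 := by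
      refine eq_one_of_mem E ?_ (mul_mem (mul_mem hβ (uu_mem_Bor E
        (RootPairing.Base.isPos_of_mem_support ha) _)) (inv_mem hβ))
      rw [h3]
      exact mul_mem (mul_mem (inv_mem hv) (uu_mem_Um E (not_isPos_neg ha) s)) hv
    have h6 : E.uu a K 1 = 1 := by
      have : E.uu a K 1 = β⁻¹ * (β * E.uu a K 1 * β⁻¹) * β := by group
      rw [this, h5]; group
    rw [← E.uu_zero a] at h6
    exact one_ne_zero (E.uu_inj a h6)
  refine ⟨TPt.cow (P.coroot a) r, ?_⟩
  rw [h1, ← nv_eq E ha r]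
  have : (r' : K) = ((r⁻¹ : Kˣ) : K) := by
    rw [← Units.inv_mul_cancel_left r (r' : K), hrr, mul_one]
  rw [this]

/-- shortening a word which is not reduced -/
lemma exists_shorten {m : List idx} {a : idx} {l' : List idx}
    (hl : ∀ c ∈ m ++ a :: l', c ∈ b.support) (h : ¬ b.IsPos ((wp P l').symm a)) :
    ∃ l : List idx, (∀ c ∈ l, c ∈ b.support) ∧ l.length < (m ++ a :: l').length ∧
      ∃ t : TPt M K, nw E K (m ++ a :: l') = E.i K t * nw E K l := by
  have ha : a ∈ b.support := hl a (by simp)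
  have hm : ∀ c ∈ m, c ∈ b.support := fun c hc => hl c (by simp [hc])
  have hl' : ∀ c ∈ l', c ∈ b.support := fun c hc => hl c (by simp [hc])
  obtain ⟨m₁, d, m₂, rfl, hd⟩ := exchange hl' (RootPairing.Base.isPos_of_mem_support ha) h
  have hm₁ : ∀ c ∈ m₁, c ∈ b.support := fun c hc => hl' c (by simp [hc])
  have hm₂ : ∀ c ∈ m₂, c ∈ b.support := fun c hc => hl' c (by simp [hc])
  obtain ⟨t, ht⟩ := conj_nn E hm₁ ha (hl' d (by simp)) hd
  -- `n_a i(t) n_a = i(t')`
  obtain ⟨t', ht'⟩ : ∃ t' : TPt M K, E.nn a K * E.i K t * E.nn a K = E.i K t' := by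
    have h1 := nn_conj_i E (B := K) ha t
    have h2 : E.nn a K * E.nn a K = (E.i K (TPt.cow (P.coroot a) (-1)))⁻¹ := by
      have h3 : E.i K (TPt.cow (P.coroot a) (-1)) * (E.nn a K * E.nn a K) = 1 := by
        rw [← mul_assoc, ← nn_inv E (B := K) ha, inv_mul_cancel]
      exact eq_inv_of_mul_eq_one_right h3
    have h3 : E.nn a K * E.i K t * E.nn a K =
        (E.nn a K * E.i K t * (E.nn a K)⁻¹) * (E.nn a K * E.nn a K) := by group
    exact ⟨_, by rw [h3, h1, h2, ← i_inv, ← map_mul]⟩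
  obtain ⟨t'', ht''⟩ := conj_nw_i E hm t'
  refine ⟨m ++ (m₁ ++ m₂), ?_, by simp, t'', ?_⟩
  · intro c hc
    simp only [List.mem_append] at hc
    rcases hc with hc | hc | hc
    · exact hm c hc
    · exact hm₁ c hc
    · exact hm₂ c hc
  · rw [nw_append, nw_cons, nw_append, nw_cons, nw_append, nw_append, ← ht'']
    have h1 : E.nn d K = (nw E K m₁)⁻¹ * (E.i K t * E.nn a K) * nw E K m₁ := by
      rw [← ht]; group
    rw [h1]
    have h2 : nw E K m * (E.nn a K * (nw E K m₁ * ((nw E K m₁)⁻¹ * (E.i K t * E.nn a K) *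
        nw E K m₁ * nw E K m₂))) = nw E K m * (E.nn a K * E.i K t * E.nn a K) *
          (nw E K m₁ * nw E K m₂) := by group
    rw [h2, ht']
    group

/-- **Minimal words.** -/
theorem exists_coset [IsAlgClosed K] {μ : Module.Dual ℤ M}
    (hμ : ∀ a ∈ b.support, 0 ≤ μ (P.root a)) (Q : Subgroup (Pt K A K))
    (hT : ∀ t : TPt M K, E.i K t ∈ Q)
    (hQ : ∀ (c : idx) (x : K), 0 ≤ μ (P.root c) → E.uu c K x ∈ Q) (g : Pt K A K) :
    ∃ l : List idx, Red b l ∧ (∀ c ∈ invl P l, 0 < μ (P.root c)) ∧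
      ∃ q ∈ Q, ∃ β ∈ Bor E K, g = q * nw E K l * β := by
  classical
  have hex : ∃ n : ℕ, ∃ l : List idx, (∀ a ∈ l, a ∈ b.support) ∧ l.length = n ∧
      ∃ q ∈ Q, ∃ β ∈ Bor E K, g = q * nw E K l * β := by
    obtain ⟨l, hl, b₁, hb₁, b₂, hb₂, h⟩ := bruhat E g
    refine ⟨_, l, hl, rfl, b₁, ?_, b₂, hb₂, h⟩
    obtain ⟨_, ⟨x, rfl⟩, t, rfl⟩ := hb₁
    refine mul_mem ?_ (hT t)
    rw [posP]
    apply Subgroup.list_prod_mem
    intro y hy
    obtain ⟨c, hc, rfl⟩ := List.mem_map.mp hy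
    exact hQ c _ (nonneg_of_isPos hμ ((mem_posList b).mp hc))
  obtain ⟨l, hl, hlen, q, hq, β, hβ, hg⟩ := Nat.find_spec hex
  have hmin : ∀ l' : List idx, (∀ a ∈ l', a ∈ b.support) → l'.length < l.length →
      ∀ q' ∈ Q, g ≠ q' * nw E K l' * β := by
    intro l' hl' hlt q' hq' he
    exact Nat.find_min hex (hlen ▸ hlt) ⟨l', hl', rfl, q', hq', β, hβ, he⟩
  have hred : Red b l := by
    apply red_of_suffix hl
    intro m a l' e
    by_contra hneg
    subst e
    obtain ⟨l₁, h1, h2, t, h3⟩ := exists_shorten E hl hneg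
    refine hmin l₁ h1 h2 (q * E.i K t) (mul_mem hq (hT t)) ?_
    rw [hg, h3, ← mul_assoc q]
  refine ⟨l, hred, ?_, q, hq, β, hβ, hg⟩
  intro c hc
  refine lt_of_le_of_ne (nonneg_of_isPos hμ (hred.invl c hc).1) fun h0 => ?_
  obtain ⟨m₁, a, m₂, rfl, rfl⟩ := exists_of_mem_invl hc
  have hm₁ : ∀ c ∈ m₁, c ∈ b.support := fun c hc => hl c (by simp [hc])
  have hm₂ : ∀ c ∈ m₂, c ∈ b.support := fun c hc => hl c (by simp [hc])
  have hn : nw E K m₁ * E.nn a K * (nw E K m₁)⁻¹ ∈ Q := by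
    obtain ⟨r, hr⟩ := conj_nw E hm₁ a
    obtain ⟨r', hr'⟩ := conj_nw E hm₁ (P.reflectionPerm a a)
    have h1 : nw E K m₁ * E.nn a K * (nw E K m₁)⁻¹ =
        (nw E K m₁ * E.uu a K 1 * (nw E K m₁)⁻¹) *
        (nw E K m₁ * E.uu (P.reflectionPerm a a) K (-1) * (nw E K m₁)⁻¹) *
        (nw E K m₁ * E.uu a K 1 * (nw E K m₁)⁻¹) := by
      rw [PinCell.nn]; group
    rw [h1, hr, hr']
    have h2 : 0 ≤ μ (P.root (wp P m₁ (P.reflectionPerm a a))) := by
      rw [wp_neg, root_neg, map_neg, ← h0, neg_zero]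
    exact mul_mem (mul_mem (hQ _ _ h0.le) (hQ _ _ h2)) (hQ _ _ h0.le)
  refine hmin (m₁ ++ m₂) ?_ (by simp) _ (mul_mem hq hn) ?_
  · intro c hc
    rcases List.mem_append.mp hc with hc | hc
    · exact hm₁ c hc
    · exact hm₂ c hc
  · rw [hg, nw_append, nw_append, nw_cons]
    group

end Groth.Agent.RedSub.H662.Coset
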