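import Groth.Agent.RedSub.H662.PK
import Groth.Agent.Sga3B.Parab.DynExist998

/-!
# Points of the Hopf algebra of `G` over `k` in terms of a pinned chart of `G_K`
-/

set_option autoImplicit false
set_option linter.unusedSectionVars false
set_option linter.dupNamespace false
universe u

open CategoryTheory MonoidalCategory CartesianMonoidalCategory MonObj GrpObj AlgebraicGeometry Limits
open scoped LaurentPolynomial Polynomial TensorProduct

namespace Groth.Agent.RedSub.H662.HK

open Groth.Agent.Sga3B Groth.Agent.Sga3B.PinMod Groth.Agent.Sga3B.DSPts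
open Groth.Agent.Sga3B.Cell hiding uT uT_zpow
open Groth.Agent.Sga3B.Parab Groth.Agent.Sga3B.Parab.Dyn998 Groth.Agent.Sga3B.Parab.DynBc998
open Groth.Agent.Sga3B.Parab.DynExist998
open Groth.Agent.RedSub.H639.PinBuildX
open Groth.Agent.Books.DynLim Groth.Agent.Books.AffBridge
open Groth.Agent.Books.DynBasic hiding orb
open Groth.Agent.Sga3B.PinFinal (jOf)
open Groth.Agent.Sga3B.Parab.Chart998 (pt pt_bijective pt_mul pt_one comp_pt orb_pt limOne_pt_iff
  lamB)
open Lim PK

variable {k K : Type u} [Field k] [Field K] [Algebra k K]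
  {x : Spec (CommRingCat.of K) ⟶ Spec (CommRingCat.of k)}
  (hx : Spec.map (CommRingCat.ofHom (algebraMap k K)) = x)
  {G : Over (Spec (CommRingCat.of k))} [GrpObj G] {D : Red.Pinning (Red.bc x G)}
  (C : PinChart D (𝟙 (Spec (CommRingCat.of K))))
  {H : Type u} [CommRing H] [HopfAlgebra k H] (e : G ≅ SpecOver k H) [IsMonHom e.hom]
  (B : Type u) [CommRing B] [Algebra K B] [Algebra k B] [IsScalarTower k K B]

include hx in
lemma hck : Spec.map (CommRingCat.ofHom (algebraMap k B)) ≫ 𝟙 (Spec (CommRingCat.of k)) =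
    Spec.map (CommRingCat.ofHom (algebraMap K B)) ≫ x := by
  rw [Category.comp_id, IsScalarTower.algebraMap_eq k K B, CommRingCat.ofHom_comp, Spec.map_comp, hx]

/-- the dictionary -/
noncomputable def HK : (H →ₐ[k] B) ≃ Pt K C.A B :=
  (Equiv.ofBijective _ (pt_bijective (chartId e) (hck hx B))).trans
    (PK x C (B := B) rfl).symm.toEquiv

variable {B}

lemma transfer {c c' : Spec (CommRingCat.of B) ⟶ Spec (CommRingCat.of k)} (h : c = c')
    (h1 : Spec.map (CommRingCat.ofHom (algebraMap K B)) ≫ x = c)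
    (h1' : Spec.map (CommRingCat.ofHom (algebraMap K B)) ≫ x = c')
    (h2 : Spec.map (CommRingCat.ofHom (algebraMap k B)) ≫ 𝟙 (Spec (CommRingCat.of k)) = c)
    (h2' : Spec.map (CommRingCat.ofHom (algebraMap k B)) ≫ 𝟙 (Spec (CommRingCat.of k)) = c')
    {p : Pt K C.A B} {φ : H →ₐ[k] B} (heq : PK x C h1 p = pt (chartId e) h2 φ) :
    PK x C h1' p = pt (chartId e) h2' φ := by
  subst h
  exact heq

lemma PK_HK (φ : H →ₐ[k] B) : PK x C (B := B) rfl (HK hx C e B φ) =
    pt (chartId e) (hck hx B) φ := (PK x C (B := B) rfl).apply_symm_apply _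

lemma HK_nat {B' : Type u} [CommRing B'] [Algebra K B'] [Algebra k B'] [IsScalarTower k K B']
    (ψ : B →ₐ[K] B') (φ : H →ₐ[k] B) :
    Pt.map ψ (HK hx C e B φ) = HK hx C e B' ((ψ.restrictScalars k).comp φ) := by
  apply (PK x C (B := B') rfl).injective
  let y : aff B' (Spec.map (CommRingCat.ofHom (algebraMap K B')) ≫ x) ⟶
      aff B (Spec.map (CommRingCat.ofHom (algebraMap K B)) ≫ x) :=
    Over.homMk (Spec.map (CommRingCat.ofHom ψ.toRingHom)) (by
      change Spec.map (CommRingCat.ofHom ψ.toRingHom) ≫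
        Spec.map (CommRingCat.ofHom (algebraMap K B)) ≫ x =
          Spec.map (CommRingCat.ofHom (algebraMap K B')) ≫ x
      rw [← Category.assoc, ← Spec.map_comp, ← CommRingCat.ofHom_comp]
      congr 3
      exact ψ.comp_algebraMap)
  rw [← PK_nat x C rfl rfl ψ y rfl, PK_HK, PK_HK]
  exact comp_pt (chartId e) (hck hx B) (hck hx B') (ψ.restrictScalars k) y rfl φ

variable {lam : Red.Gm (Spec (CommRingCat.of k)) ⟶ G} [IsMonHom lam] {mu : Module.Dual ℤ D.M}
  (hlam : bcLam lam x = Par.coch D.toSplitRed mu)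

include hlam in
lemma HK_orb (φ : H →ₐ[k] B) : orbE C.E mu (HK hx C e B φ) =
    HK hx C e B[T;T⁻¹] (Dyn.conjOrbit k H (lamB lam (chartId e)) B φ) := by
  apply (PK x C (B := B[T;T⁻¹]) rfl).injective
  rw [PK_HK]
  have h1 := orb_pt lam (chartId e) (hck hx B) φ
  have h2 := PK_orb x C hlam (B := B) rfl (HK hx C e B φ)
  rw [PK_HK] at h2
  refine transfer C e ?_ (PK.hcL x rfl) rfl (Chart998.hcL (hck hx B)) (hck hx _)
    (h2.symm.trans h1)
  rw [← Category.assoc, ← spec_tower]

include hlam in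
lemma HK_UE (φ : H →ₐ[k] B) : HK hx C e B φ ∈ UE C.E mu B ↔
    ∀ a ∈ JU (lamB lam (chartId e)), φ a = 0 := by
  rw [← limOne_iff x C hlam (B := B) rfl, PK_HK, limOne_pt_iff]

lemma HK_one : HK hx C e B ((Algebra.ofId k B).comp (Bialgebra.counitAlgHom k H)) = 1 := by
  apply (PK x C (B := B) rfl).injective
  rw [PK_HK, map_one]
  exact pt_one (chartId e) (hck hx B)

end Groth.Agent.RedSub.H662.HK
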