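import Groth.Agent.RedSub.H662.Step
import Mathlib.RingTheory.MvPolynomial.WeightedHomogeneous

/-!
# Homogeneous vanishing functions

For a reduced word `l` and a dominant cocharacter `μ` there is a `μ`-homogeneous function `h` on `U⁺`
vanishing at all `u` with `u⁻¹ n_l` not in the big cell, and not vanishing at a point of the form
`gl E l x` with `x i ^ 2 = 0`.
-/

set_option autoImplicit false
set_option linter.unusedSectionVars false
set_option linter.dupNamespace false
universe u

namespace Groth.Agent.RedSub.H662.Homog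

open Groth.Agent.Sga3B Groth.Agent.Sga3B.Cell Groth.Agent.Sga3B.Word
open Groth.Agent.RedSub.H638.WeylBase Groth.Agent.RedSub.H638.WeylCover
open Panel PosPt Van Step

variable {idx M : Type} [Fintype idx] [AddCommGroup M] [Module.Free ℤ M]
    [Module.Finite ℤ M] {P : RootPairing idx ℤ M (Module.Dual ℤ M)} {b : P.Base}

omit [Module.Free ℤ M] [Module.Finite ℤ M] [Fintype idx] in
lemma nonneg_of_isPos {μ : Module.Dual ℤ M} (hμ : ∀ a ∈ b.support, 0 ≤ μ (P.root a)) {c : idx}
    (hc : b.IsPos c) : 0 ≤ μ (P.root c) := by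
  obtain ⟨f, hf₀, hf₁, hf₂⟩ := b.exists_root_eq_sum_int c
  replace hf₁ : 0 < f := by
    refine hf₁.resolve_right ?_
    rw [b.isPos_iff, b.height_eq_sum hf₂] at hc
    contrapose! hc
    exact Finset.sum_nonpos fun i _ ↦ hc.le i
  rw [hf₂, map_sum]
  refine Finset.sum_nonneg fun j hj => ?_
  rw [map_zsmul, smul_eq_mul]
  exact mul_nonneg (hf₁.le j) (hμ j hj)

noncomputable instance instFintypePI (b : P.Base) : Fintype (PI b) := by
  classical exact Subtype.fintype _

/-- the weights of the positive roots -/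
def wt (b : P.Base) (μ : Module.Dual ℤ M) (c : PI b) : ℕ := (μ (P.root c)).toNat

lemma wt_eq {μ : Module.Dual ℤ M} (hμ : ∀ a ∈ b.support, 0 ≤ μ (P.root a)) (c : PI b) :
    ((wt b μ c : ℕ) : ℤ) = μ (P.root c) := Int.toNat_of_nonneg (nonneg_of_isPos hμ c.2)

section scale

open MvPolynomial

variable {σ : Type*} [Fintype σ] {R : Type*} [CommRing R] {S : Type*} [CommRing S] [Algebra R S]

lemma aeval_scale {w : σ → ℕ} {p : MvPolynomial σ R} {n : ℕ} (hp : IsWeightedHomogeneous w p n)
    (x : σ → S) (t : S) : aeval (fun c => t ^ (w c) * x c) p = t ^ n * aeval x p := by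
  rw [aeval_def, aeval_def, eval₂_eq', eval₂_eq', Finset.mul_sum]
  refine Finset.sum_congr rfl fun d hd => ?_
  have h1 : Finsupp.weight w d = n := hp (mem_support_iff.1 hd)
  have h2 : (∏ i, (t ^ (w i) * x i) ^ d i) = t ^ n * ∏ i, x i ^ d i := by
    simp_rw [mul_pow, ← pow_mul]
    rw [Finset.prod_mul_distrib, Finset.prod_pow_eq_pow_sum, ← h1, Finsupp.weight_eq_sum]
    congr 2
    refine Finset.sum_congr rfl fun i _ => ?_
    rw [smul_eq_mul, mul_comm]
  rw [h2]
  ring

lemma aeval_scale_sum (w : σ → ℕ) (p : MvPolynomial σ R) (x : σ → S) (t : S) {N : ℕ}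
    (hN : weightedTotalDegree w p < N) :
    aeval (fun c => t ^ (w c) * x c) p =
      ∑ n ∈ Finset.range N, t ^ n * aeval x (weightedHomogeneousComponent w n p) := by
  have h1 : p = ∑ n ∈ Finset.range N, weightedHomogeneousComponent w n p := by
    conv_lhs => rw [← finsum_weightedHomogeneousComponent (w := w) (φ := p)]
    apply finsum_eq_sum_of_support_subset
    intro n hn
    rw [Finset.coe_range, Set.mem_Iio]
    by_contra hlt
    exact hn (weightedHomogeneousComponent_eq_zero n p (by omega))
  conv_lhs => rw [h1]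
  rw [map_sum]
  refine Finset.sum_congr rfl fun n _ => ?_
  exact aeval_scale (weightedHomogeneousComponent_isWeightedHomogeneous n p) x t

end scale

variable {K : Type u} [Field K] {A : Type u} [CommRing A] [Algebra K A] [PtGrp K A]
  (E : PinCell P b K A)

lemma i_mul_posP {B : Type u} [CommRing B] [Algebra K B] (t : TPt M B) (z : idx → B) :
    E.i B t * posP E z = posP E (fun c => TPt.ch (P.root c) t * z c) * E.i B t :=
  E.toDatum.i_mul_prod (posList b) z t

lemma conj_cow_pu {μ : Module.Dual ℤ M} (hμ : ∀ a ∈ b.support, 0 ≤ μ (P.root a))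
    {B : Type u} [CommRing B] [Algebra K B] (v : Bˣ) (x : PI b → B) :
    E.i B (TPt.cow μ v) * pu E x * (E.i B (TPt.cow μ v))⁻¹ =
      pu E (fun c => (v : B) ^ (wt b μ c) * x c) := by
  rw [mul_inv_eq_iff_eq_mul, pu, i_mul_posP]
  congr 1
  apply posP_congr
  intro c hc
  rw [ext0_pos _ hc, ext0_pos _ hc, TPt.ch_cow, ← wt_eq hμ ⟨c, hc⟩, zpow_natCast,
    Units.val_pow_eq_pow_val]

theorem exists_van [Infinite K] {l : List idx} (hl : Red b l) :
    ∃ h : KU b K, Van E l h ∧ NF E l h := by
  induction l with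
  | nil =>
    refine ⟨1, ?_, K, inferInstance, inferInstance, fun _ => 0, 0, by simp, ?_, ?_⟩
    · intro F _ _ x hx
      exact absurd (inC_of_mem_Bor E (by
        rw [nw_nil, mul_one]
        exact inv_mem (Up_le_Bor E (pu_mem E x)))) hx
    · rw [pu_zero]; rfl
    · rw [map_one]; exact one_ne_zero
  | cons a l ih =>
    obtain ⟨h', h1, h2⟩ := ih hl.2.2
    exact step E hl h1 h2

/-- the homogeneous components of a vanishing function are vanishing functions -/
theorem Van.component [Infinite K] {l : List idx} (hl : ∀ a ∈ l, a ∈ b.support) {h : KU b K}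
    (hV : Van E l h) {μ : Module.Dual ℤ M} (hμ : ∀ a ∈ b.support, 0 ≤ μ (P.root a)) (n : ℕ) :
    Van E l (MvPolynomial.weightedHomogeneousComponent (wt b μ) n h) := by
  intro F _ _ x hx
  have hinf : Infinite F := Infinite.of_injective (algebraMap K F) (algebraMap K F).injective
  set N := max (MvPolynomial.weightedTotalDegree (wt b μ) h) n + 1 with hN
  let p : Polynomial F := ∑ m ∈ Finset.range N, Polynomial.X ^ m * Polynomial.C
    (MvPolynomial.aeval x (MvPolynomial.weightedHomogeneousComponent (wt b μ) m h))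
  have hp : p = 0 := by
    apply Polynomial.eq_zero_of_infinite_isRoot
    refine Set.Infinite.mono (s := {t : F | t ≠ 0}) ?_ ?_
    · intro t ht
      have h1 : MvPolynomial.aeval (fun c => t ^ (wt b μ c) * x c) h = 0 := by
        apply hV
        have h2 := conj_cow_pu E hμ (Units.mk0 t ht) x
        rw [Units.val_mk0] at h2
        rw [← h2]
        obtain ⟨t', ht'⟩ := conj_nw_inv_i E hl (TPt.cow μ (Units.mk0 t ht) : TPt M F)
        have h3 : (E.i F (TPt.cow μ (Units.mk0 t ht)) * pu E x *
            (E.i F (TPt.cow μ (Units.mk0 t ht)))⁻¹)⁻¹ * nw E F l =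
            E.i F (TPt.cow μ (Units.mk0 t ht)) * ((pu E x)⁻¹ * nw E F l) * (E.i F t')⁻¹ := by
          rw [← ht']
          group
        rw [h3, inC_mul_bor E (inv_mem (i_mem_Bor E _)), inC_i_mul]
        exact hx
      rw [aeval_scale_sum (wt b μ) h x t (N := N) (by omega)] at h1
      change p.eval t = 0
      rw [← h1, Polynomial.eval_finsetSum]
      refine Finset.sum_congr rfl fun m _ => ?_
      rw [Polynomial.eval_mul, Polynomial.eval_pow, Polynomial.eval_X, Polynomial.eval_C]
    · have h2 : {t : F | t ≠ 0} = ({0} : Set F)ᶜ := rfl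
      rw [h2]
      exact Set.Finite.infinite_compl (Set.finite_singleton 0)
  have h3 : p.coeff n = MvPolynomial.aeval x
      (MvPolynomial.weightedHomogeneousComponent (wt b μ) n h) := by
    rw [Polynomial.finsetSum_coeff, Finset.sum_eq_single n]
    · rw [Polynomial.coeff_X_pow_mul', if_pos le_rfl, Nat.sub_self, Polynomial.coeff_C_zero]
    · intro m _ hmn
      rw [Polynomial.coeff_X_pow_mul']
      split_ifs with hle
      · rw [Polynomial.coeff_C_of_ne_zero (by omega)]
      · rfl
    · intro hn
      exact absurd (Finset.mem_range.mpr (by omega)) hn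
  rw [← h3, hp, Polynomial.coeff_zero]

/-- **Homogeneous vanishing functions.** -/
theorem exists_van_homog [Infinite K] {l : List idx} (hl : Red b l) {μ : Module.Dual ℤ M}
    (hμ : ∀ a ∈ b.support, 0 ≤ μ (P.root a)) :
    ∃ (h : KU b K) (n : ℕ), Van E l h ∧ NF E l h ∧
      MvPolynomial.IsWeightedHomogeneous (wt b μ) h n := by
  obtain ⟨h, hV, B, _, _, x, ξ, h1, h2, h3⟩ := exists_van E hl
  obtain ⟨n, hn⟩ : ∃ n, MvPolynomial.aeval ξ
      (MvPolynomial.weightedHomogeneousComponent (wt b μ) n h) ≠ 0 := by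
    by_contra hcon
    push Not at hcon
    apply h3
    have h4 := aeval_scale_sum (wt b μ) h ξ 1 (Nat.lt_succ_self _)
    simp only [one_pow, one_mul] at h4
    rw [h4]
    exact Finset.sum_eq_zero fun m _ => hcon m
  exact ⟨_, n, Van.component E hl.support hV hμ n, ⟨B, _, _, x, ξ, h1, h2, hn⟩,
    MvPolynomial.weightedHomogeneousComponent_isWeightedHomogeneous n h⟩

end Groth.Agent.RedSub.H662.Homog
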