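import Mathlib.RingTheory.Polynomial.IntegralNormalization
import Mathlib.Algebra.Polynomial.Reverse
import Mathlib.RingTheory.IntegralClosure.IntegrallyClosed

/-!
# The product of the constant term and the inverse of a root

`O` an integrally closed domain with fraction field `Q`, `H` a polynomial over `O` and `z ≠ 0` in `Q` with
`H (z⁻¹) = 0`.  Then `H(0) z` is in `O`; it is killed by every homomorphism to a reduced ring which kills all
the coefficients of `H`.
-/

set_option autoImplicit false
universe u

open Polynomial

namespace Groth.Agent.RedSub.H662.IntNum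

theorem exists_num {O Q : Type u} [CommRing O] [IsDomain O] [IsIntegrallyClosed O] [Field Q]
    [Algebra O Q] [IsFractionRing O Q] (H : O[X]) {z : Q} (hz : z ≠ 0)
    (hH : eval₂ (algebraMap O Q) z⁻¹ H = 0) :
    ∃ N : O, algebraMap O Q N = algebraMap O Q (H.coeff 0) * z ∧
      ∀ (F : Type u) [CommRing F] [IsReduced F] (φ : O →+* F), (∀ j, φ (H.coeff j) = 0) →
        φ N = 0 := by
  have hinj : Function.Injective (algebraMap O Q) := IsFractionRing.injective O Q
  by_cases h0 : H.coeff 0 = 0
  · exact ⟨0, by simp [h0], fun F _ _ φ _ => map_zero φ⟩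
  have hH0 : H ≠ 0 := by
    rintro rfl
    simp at h0
  have htr : H.natTrailingDegree = 0 := by
    rw [natTrailingDegree_eq_zero]
    exact Or.inr h0
  set p := H.reverse with hp
  have hlead : p.leadingCoeff = H.coeff 0 := by
    rw [hp, reverse_leadingCoeff, trailingCoeff, htr]
  have hp0 : p ≠ 0 := by
    intro h
    rw [h, leadingCoeff_zero] at hlead
    exact h0 hlead.symm
  have hroot : eval₂ (algebraMap O Q) z p = 0 := by
    letI : Invertible z⁻¹ := invertibleOfNonzero (inv_ne_zero hz)
    have h1 := (eval₂_reverse_eq_zero_iff (algebraMap O Q) z⁻¹ H).2 hH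
    have h2 : (⅟(z⁻¹) : Q) = z := by
      rw [invOf_eq_inv, inv_inv]
    rwa [h2] at h1
  have hint := integralNormalization_eval₂_eq_zero (algebraMap O Q) hroot
    (fun x hx => hinj (by rw [hx, map_zero]))
  rw [hlead] at hint
  have hmonic := monic_integralNormalization hp0
  have hI : IsIntegral O (algebraMap O Q (H.coeff 0) * z) := ⟨_, hmonic, hint⟩
  obtain ⟨N, hN⟩ := IsIntegrallyClosed.isIntegral_iff.mp hI
  refine ⟨N, hN, fun F _ _ φ hφ => ?_⟩
  have h1 : eval N p.integralNormalization = 0 := by
    apply hinj
    rw [map_zero, ← hint, ← hN, eval₂_at_apply]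
  have h2 : p.integralNormalization.map φ = X ^ p.natDegree := by
    ext i
    rw [coeff_map, coeff_X_pow]
    by_cases hi : i = p.natDegree
    · rw [if_pos hi, hi, integralNormalization_coeff_natDegree hp0, map_one]
    · rw [if_neg hi, integralNormalization_coeff_ne_natDegree hi, map_mul, hp, coeff_reverse, hφ,
        zero_mul]
  have h3 : (φ N) ^ p.natDegree = 0 := by
    have h4 := congrArg φ h1
    rw [map_zero, ← eval₂_at_apply, eval₂_eq_eval_map, h2, eval_pow, eval_X] at h4
    exact h4
  by_cases hd : p.natDegree = 0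
  · exfalso
    rw [eq_C_of_natDegree_eq_zero hd, eval₂_C] at hroot
    have h5 : p.coeff 0 = p.leadingCoeff := by rw [leadingCoeff, hd]
    rw [h5, hlead] at hroot
    exact h0 (hinj (by rw [hroot, map_zero]))
  · exact pow_eq_zero_iff hd |>.mp h3

end Groth.Agent.RedSub.H662.IntNum
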