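import Groth.Agent.RedSub.H662.Lim
import Groth.Agent.RedSub.H662.Coset
import Groth.Agent.RedSub.H662.Comb

/-!
# The main argument over an algebraically closed field

`E : PinCell P b K A`, `K` algebraically closed, `μ` dominant, `ι` a point of `U_G(μ)` over the
polynomial ring `K[y₁, …, yₙ]`, equivariant for positive weights, through which all points of `U_G(μ)`
factor.  Then every `g ∈ G(K)` is `ι(a) v p` with `a ∈ kⁿ`, `v ∈ U_G(-μ)(K)`, `p ∈ P_G(μ)(K)`, for any
subfield `k` of `K`, finite or not.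
-/

set_option autoImplicit false
set_option linter.unusedSectionVars false
set_option linter.dupNamespace false
universe u

open scoped LaurentPolynomial Polynomial

namespace Groth.Agent.RedSub.H662.KeyK

open Groth.Agent.Sga3B Groth.Agent.Sga3B.Cell Groth.Agent.Sga3B.Word
open Groth.Agent.RedSub.H638.WeylBase Groth.Agent.RedSub.H638.WeylCover
open Groth.Agent.Books.DynBasic Groth.Agent.Books.DynLim
open Panel PosPt Van Homog Lim Step Coset Comb

section alg

variable {K : Type u} [Field K] {n : ℕ}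

/-- the substitution `y_j ↦ T ^ (w j) y_j` -/
noncomputable def Th (K : Type u) [Field K] (w : Fin n → ℕ) :
    MvPolynomial (Fin n) K →ₐ[K] (MvPolynomial (Fin n) K)[T;T⁻¹] :=
  MvPolynomial.aeval fun j => LaurentPolynomial.T (w j : ℤ) * LaurentPolynomial.C (MvPolynomial.X j)

lemma coeff_T_mul_C {R : Type*} [CommRing R] (m m' : ℤ) (x : R) :
    (LaurentPolynomial.T m * LaurentPolynomial.C x : R[T;T⁻¹]).coeff m' = if m = m' then x else 0 := by
  rw [mul_comm, ← LaurentPolynomial.single_eq_C_mul_T, AddMonoidAlgebra.coeff_single,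
    Finsupp.single_apply]

lemma coeff_Th (w : Fin n → ℕ) (F : MvPolynomial (Fin n) K) (m : ℕ) :
    (Th K w F).coeff (m : ℤ) = MvPolynomial.weightedHomogeneousComponent w m F := by
  set N := max (MvPolynomial.weightedTotalDegree w F) m + 1 with hN
  have h1 := aeval_scale_sum (S := (MvPolynomial (Fin n) K)[T;T⁻¹]) w F
    (fun j => LaurentPolynomial.C (MvPolynomial.X j)) (LaurentPolynomial.T 1) (N := N) (by omega)
  have h2 : Th K w F = MvPolynomial.aeval (fun j => (LaurentPolynomial.T 1) ^ (w j) *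
      LaurentPolynomial.C (MvPolynomial.X j)) F := by
    rw [Th]
    congr 2
    funext j
    rw [LaurentPolynomial.T_pow, mul_one]
  have h3 : ∀ p : MvPolynomial (Fin n) K,
      MvPolynomial.aeval (fun j => (LaurentPolynomial.C (MvPolynomial.X j) :
        (MvPolynomial (Fin n) K)[T;T⁻¹])) p = LaurentPolynomial.C p := by
    intro p
    have h4 : MvPolynomial.aeval (fun j => (LaurentPolynomial.C (MvPolynomial.X j) :
        (MvPolynomial (Fin n) K)[T;T⁻¹])) = cst K (MvPolynomial (Fin n) K) := by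
      ext j
      simp
    rw [h4]; rfl
  rw [h2, h1]
  simp only [h3, LaurentPolynomial.T_pow, mul_one]
  have h5 : (∑ x ∈ Finset.range N, (LaurentPolynomial.T (x : ℤ) *
      LaurentPolynomial.C (MvPolynomial.weightedHomogeneousComponent w x F) :
        (MvPolynomial (Fin n) K)[T;T⁻¹])).coeff (m : ℤ) =
      ∑ x ∈ Finset.range N, (LaurentPolynomial.T (x : ℤ) *
      LaurentPolynomial.C (MvPolynomial.weightedHomogeneousComponent w x F) :
        (MvPolynomial (Fin n) K)[T;T⁻¹]).coeff (m : ℤ) := by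
    rw [AddMonoidAlgebra.coeff_sum, Finset.sum_apply']
  rw [h5, Finset.sum_eq_single m]
  · rw [coeff_T_mul_C, if_pos rfl]
  · intro x _ hx
    rw [coeff_T_mul_C, if_neg (by exact_mod_cast hx)]
  · intro hm
    exact absurd (Finset.mem_range.mpr (by omega)) hm

/-- the substitution `X ↦ T⁻¹` -/
noncomputable def chi (K : Type u) [Field K] (S : Type u) [CommRing S] [Algebra K S] :
    S[X] →ₐ[K] S[T;T⁻¹] :=
  (Polynomial.aeval (R := S) (LaurentPolynomial.T (-1) : S[T;T⁻¹])).restrictScalars K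

lemma coeff_chi {S : Type u} [CommRing S] [Algebra K S] (D : ℕ) (Ψ : S[X]) {m : ℤ} (hm : (D : ℤ) ≤ m) :
    (LaurentPolynomial.T (D : ℤ) * chi K S Ψ).coeff m = if m = D then Ψ.coeff 0 else 0 := by
  induction Ψ using Polynomial.induction_on' with
  | add p q hp hq =>
    rw [map_add, mul_add, AddMonoidAlgebra.coeff_add, Finsupp.add_apply, hp, hq,
      Polynomial.coeff_add]
    split_ifs <;> simp
  | monomial j x =>
    have h1 : chi K S (Polynomial.monomial j x) =
        LaurentPolynomial.T (-(j : ℤ)) * LaurentPolynomial.C x := by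
      change Polynomial.aeval (LaurentPolynomial.T (-1) : S[T;T⁻¹]) (Polynomial.monomial j x) = _
      rw [Polynomial.aeval_monomial, LaurentPolynomial.T_pow, mul_comm]
      congr 2
      ring
    rw [h1, ← mul_assoc, ← LaurentPolynomial.T_add, coeff_T_mul_C, Polynomial.coeff_monomial]
    by_cases hj : j = 0
    · subst hj
      by_cases hmD : m = D
      · subst hmD
        simp
      · rw [if_neg (by omega), if_neg hmD]
    · rw [if_neg (by omega)]
      split_ifs <;> rfl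

end alg

variable {idx M : Type} [Fintype idx] [AddCommGroup M] [Module.Free ℤ M]
    [Module.Finite ℤ M] {P : RootPairing idx ℤ M (Module.Dual ℤ M)} {b : P.Base}
variable {K : Type u} [Field K] {A : Type u} [CommRing A] [Algebra K A] [PtGrp K A]
  (E : PinCell P b K A)

lemma ZE_neg {μ : Module.Dual ℤ M} {z : Pt K A K} (hz : z ∈ ZE E μ K) : z ∈ ZE E (-μ) K := by
  have h1 : orbE E μ z = Pt.map (cst K K) z := hz
  have h2 : (TPt.cow (-μ) (uT K) : TPt M K[T;T⁻¹]) = (TPt.cow μ (uT K))⁻¹ := by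
    refine MonoidHom.ext fun m => ?_
    change (uT K) ^ ((-μ) m.toAdd) = ((uT K) ^ (μ m.toAdd))⁻¹
    rw [LinearMap.neg_apply, zpow_neg]
  change orbE E (-μ) z = _
  rw [orbE] at h1 ⊢
  rw [h2, i_inv, inv_inv]
  conv_lhs => rw [← h1]
  group

/-- `n_l`-points of `U⁻` are products of a point of `U_G(-μ)` and a point of `Z_G(μ)` -/
lemma exists_split_Um {μ : Module.Dual ℤ M} (hμ : ∀ a ∈ b.support, 0 ≤ μ (P.root a)) {v : Pt K A K}
    (hv : v ∈ Um E K) : ∃ v' ∈ UE E (-μ) K, ∃ z ∈ ZE E μ K, v = v' * z := by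
  obtain ⟨c, rfl⟩ := hv
  have key : ∀ L : List idx, (∀ d ∈ L, ¬ b.IsPos d) → ∃ v' ∈ UE E (-μ) K, ∃ z ∈ ZE E μ K,
      (L.map (fun d => E.uu d K (c d))).prod = v' * z := by
    intro L hL
    induction L with
    | nil => exact ⟨1, one_mem _, 1, one_mem _, by simp⟩
    | cons d L ih =>
      obtain ⟨v', hv', z, hz, h⟩ := ih fun e he => hL e (List.mem_cons_of_mem _ he)
      rw [List.map_cons, List.prod_cons, h]
      have hd : μ (P.root d) ≤ 0 := by
        have h10 : b.IsPos (P.reflectionPerm d d) := isPos_neg_iff.mpr (hL d List.mem_cons_self)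
        have h11 := nonneg_of_isPos hμ h10
        rw [root_neg, map_neg] at h11
        omega
      rcases hd.lt_or_eq with hd | hd
      · refine ⟨E.uu d K (c d) * v', mul_mem (uu_mem_UE E ?_ _) hv', z, hz, by rw [mul_assoc]⟩
        rw [LinearMap.neg_apply]
        omega
      · have h1 := uu_mem_ZE E hd (c d)
        refine ⟨E.uu d K (c d) * v' * (E.uu d K (c d))⁻¹, conj_mem_UE E hv' (ZE_neg E h1),
          E.uu d K (c d) * z, mul_mem h1 hz, by group⟩
  exact key (negList b) fun d hd => (mem_negList b).mp hd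

lemma Bor_le_PE {μ : Module.Dual ℤ M} (hμ : ∀ a ∈ b.support, 0 ≤ μ (P.root a)) :
    Bor E K ≤ PE E μ K := by
  rintro _ ⟨_, ⟨x, rfl⟩, t, rfl⟩
  refine mul_mem ?_ (ZE_le_PE E μ (i_mem_ZE E t))
  rw [posP]
  apply Subgroup.list_prod_mem
  intro y hy
  obtain ⟨c, hc, rfl⟩ := List.mem_map.mp hy
  exact uu_mem_PE E (nonneg_of_isPos hμ ((mem_posList b).mp hc)) _

/-- elements of an ideal generated by square zero elements -/
lemma pow_card_eq_zero (k : Type u) [Field k] [Algebra k K] [Finite k] {B : Type u} [CommRing B]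
    [Algebra K B] [Nontrivial B] {x : ℕ → B} (hx : ∀ n, x n * x n = 0) {y : B}
    (hy : y ∈ Ideal.span (Set.range x)) : y ^ Nat.card k = 0 := by
  have := Fintype.ofFinite k
  obtain ⟨e, hp, hq⟩ := FiniteField.card k (ringChar k)
  have : Fact (ringChar k).Prime := ⟨hp⟩
  have h1 : CharP K (ringChar k) := charP_of_injective_algebraMap (algebraMap k K).injective _
  have h2 : CharP B (ringChar k) := charP_of_injective_algebraMap (algebraMap K B).injective _
  have hq2 : 2 ≤ Nat.card k := by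
    rw [Nat.card_eq_fintype_card]
    exact Fintype.one_lt_card
  induction hy using Submodule.span_induction with
  | mem y hy =>
    obtain ⟨n, rfl⟩ := hy
    rw [← Nat.sub_add_cancel hq2, pow_add, pow_two, hx, mul_zero]
  | zero => exact zero_pow (by omega)
  | add y z _ _ h3 h4 =>
    rw [Nat.card_eq_fintype_card, hq] at h3 h4 ⊢
    rw [add_pow_char_pow, h3, h4, add_zero]
  | smul a y _ h3 => rw [smul_eq_mul, mul_pow, h3, mul_zero]

/-- **KEY over `K`.** -/
theorem key [IsAlgClosed K] {μ : Module.Dual ℤ M} (hμ : ∀ a ∈ b.support, 0 ≤ μ (P.root a))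
    (hlevi : ∀ q ∈ PE E μ K, ∃ u ∈ UE E μ K, ∃ z ∈ ZE E μ K, q = u * z)
    {n : ℕ} {w : Fin n → ℕ} (hw : ∀ j, 0 < w j) (ι : Pt K A (MvPolynomial (Fin n) K))
    (hι : ι ∈ UE E μ _) (hequi : Pt.map (Th K w) ι = orbE E μ ι)
    (hret : ∀ (B : Type u) [CommRing B] [Algebra K B] (g : Pt K A B), g ∈ UE E μ B →
      ∀ J : Ideal B, Pt.map (Ideal.Quotient.mkₐ K J) g = 1 →
        ∃ η : Fin n → B, Pt.map (MvPolynomial.aeval η) ι = g ∧ ∀ j, η j ∈ J)
    (k : Type u) [Field k] [Algebra k K] (g : Pt K A K) :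
    ∃ a : Fin n → k, ∃ v ∈ UE E (-μ) K, ∃ p ∈ PE E μ K,
      g = Pt.map (MvPolynomial.aeval fun j => algebraMap k K (a j)) ι * v * p := by
  obtain ⟨l, hred, hpos, q, hq, β, hβ, hg⟩ := exists_coset E hμ (PE E μ K)
    (fun t => ZE_le_PE E μ (i_mem_ZE E t)) (fun c x hc => uu_mem_PE E hc x) g
  obtain ⟨u₁, hu₁, l₁, hl₁, rfl⟩ := hlevi q hq
  obtain ⟨h, D, hV, hNF, hhom⟩ := exists_van_homog E hred hμ
  let S := MvPolynomial (Fin n) K
  let cS : K →ₐ[K] S := Algebra.ofId K S
  -- the conjugate of the universal point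
  have hκmem : Pt.map cS l₁⁻¹ * ι * (Pt.map cS l₁⁻¹)⁻¹ ∈ UE E μ S :=
    conj_mem_UE E hι (ZE_map E cS (inv_mem hl₁))
  obtain ⟨ξ', hξ'0, hκ⟩ := (mem_UE_iff E hμ).mp hκmem
  have hu₂mem : l₁⁻¹ * u₁⁻¹ * l₁⁻¹⁻¹ ∈ UE E μ K := conj_mem_UE E (inv_mem hu₁) (inv_mem hl₁)
  obtain ⟨x₂, hx₂0, hu₂⟩ := (mem_UE_iff E hμ).mp hu₂mem
  obtain ⟨ζ, -, hζ⟩ := (mem_UE_iff E hμ).mp (mul_mem (UE_map E cS hu₂mem) hκmem)
  let F : S := MvPolynomial.aeval ζ h
  -- it suffices to find `a` with `F(a) ≠ 0`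
  by_contra hcon
  have hF : ∀ a : Fin n → k, MvPolynomial.aeval (fun i => algebraMap k K (a i)) F = 0 := by
    intro a
    by_contra hne
    apply hcon
    let φ : S →ₐ[K] K := MvPolynomial.aeval fun i => algebraMap k K (a i)
    have hφc : φ.comp cS = AlgHom.id K K := by ext
    have h1 : MvPolynomial.aeval (fun c => φ (ζ c)) h ≠ 0 := by
      rw [← MvPolynomial.comp_aeval_apply (R := K) (f := ζ) φ h]
      exact hne
    have h2 : InC E ((pu E (fun c => φ (ζ c)))⁻¹ * nw E K l) := by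
      by_contra h3
      exact h1 (hV K _ h3)
    have hmap : Pt.map φ (Pt.map cS (l₁⁻¹ * u₁⁻¹ * l₁⁻¹⁻¹) *
        (Pt.map cS l₁⁻¹ * ι * (Pt.map cS l₁⁻¹)⁻¹)) = l₁⁻¹ * u₁⁻¹ * Pt.map φ ι * l₁ := by
      simp only [Pt.map_mul, Pt.map_inv, Pt.map_map, hφc, Pt.map_id]
      group
    rw [← pu_nat, ← hζ, hmap] at h2
    obtain ⟨v, hv, β', hβ', hvβ⟩ := (inC_iff E).mp h2
    obtain ⟨v', hv', z, hz, rfl⟩ := exists_split_Um E hμ hv
    refine ⟨a, l₁ * v' * l₁⁻¹, conj_mem_UE E hv' (ZE_neg E hl₁), l₁ * z * β' * β,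
      mul_mem (mul_mem (mul_mem (ZE_le_PE E μ hl₁) (ZE_le_PE E μ hz)) (Bor_le_PE E hμ hβ'))
        (Bor_le_PE E hμ hβ), ?_⟩
    have h4 : nw E K l = (l₁⁻¹ * u₁⁻¹ * Pt.map φ ι * l₁) * (v' * z * β') := by
      rw [← hvβ]; group
    rw [hg, h4]
    group
    rfl
  -- the curve `μ(T⁻¹) z μ(T)`
  let incX : S →ₐ[K] S[X] := IsScalarTower.toAlgHom K S S[X]
  obtain ⟨ρ, hρ⟩ := exists_pu E (mul_mem
    (pu_mem E (fun c => Polynomial.X ^ (wt b μ c) * Polynomial.C (cS (x₂ c)) : PI b → S[X]))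
    (show Pt.map incX (pu E ξ') ∈ Up E S[X] by rw [pu_nat]; exact pu_mem E _))
  have hρ0 : (fun c => ev0 K S (ρ c)) = ξ' := by
    apply pu_inj E
    have e1 : (ev0 K S).comp incX = AlgHom.id K S := by
      apply AlgHom.ext
      intro s
      rw [AlgHom.comp_apply, ev0_apply]
      exact Polynomial.coeff_C_zero
    have e2 : (fun c => ev0 K S (Polynomial.X ^ (wt b μ c) * Polynomial.C (cS (x₂ c)))) =
        (0 : PI b → S) := by
      funext c
      rw [ev0_apply, Polynomial.coeff_X_pow_mul']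
      split_ifs with h0
      · rw [hx₂0 c (Nat.le_zero.mp h0), map_zero, Polynomial.C_0, Polynomial.coeff_zero]
        rfl
      · rfl
    rw [← pu_nat, ← hρ, Pt.map_mul, pu_nat, Pt.map_map, e1, Pt.map_id, e2, pu_zero, one_mul]
  let cL : K →ₐ[K] S[T;T⁻¹] := Algebra.ofId K _
  have hcL : (cst K S).comp cS = cL := by ext
  have hcT : (Th K w).comp cS = cL := by ext
  have hchi : (chi K S).comp incX = cst K S := by
    apply AlgHom.ext
    intro s
    exact Polynomial.aeval_C _ s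
  have hTζ : (fun c => Th K w (ζ c)) = fun c => ((uT S : S[T;T⁻¹]ˣ) : S[T;T⁻¹]) ^ (wt b μ c) *
      chi K S (ρ c) := by
    apply pu_inj E
    rw [← conj_cow_pu E hμ (uT S), ← pu_nat E (Th K w), ← hζ, ← pu_nat E (chi K S), ← hρ,
      Pt.map_mul (chi K S), pu_nat, Pt.map_map, hchi]
    have e3 : E.i _ (TPt.cow μ (uT S)) * pu E (fun c => chi K S (Polynomial.X ^ (wt b μ c) *
        Polynomial.C (cS (x₂ c)))) * (E.i _ (TPt.cow μ (uT S)))⁻¹ =
        Pt.map cL (l₁⁻¹ * u₁⁻¹ * l₁⁻¹⁻¹) := by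
      rw [conj_cow_pu E hμ, hu₂, pu_nat]
      congr 1
      funext c
      have e4 : chi K S (Polynomial.X ^ (wt b μ c) * Polynomial.C (cS (x₂ c))) =
          (LaurentPolynomial.T (-1)) ^ (wt b μ c) * cL (x₂ c) := by
        rw [map_mul, map_pow]
        congr 1
        · congr 1
          exact Polynomial.aeval_X _
        · exact DFunLike.congr_fun ((AlgHom.comp_assoc _ _ _).symm.trans
            ((congrArg (fun f => AlgHom.comp f cS) hchi).trans hcL)) (x₂ c)
      rw [e4, ← mul_assoc, ← mul_pow]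
      have e5 : ((uT S : S[T;T⁻¹]ˣ) : S[T;T⁻¹]) * LaurentPolynomial.T (-1) = 1 :=
        (uT S).mul_inv
      rw [e5, one_pow, one_mul]
    have e6 : orbE E μ (Pt.map cS l₁⁻¹) = Pt.map cL l₁⁻¹ := by
      have := ZE_map E cS (inv_mem hl₁)
      change orbE E μ _ = _ at this
      rw [this, Pt.map_map, hcL]
    have e7 : orbE E μ (pu E ξ') =
        Pt.map cL l₁⁻¹ * Pt.map (Th K w) ι * (Pt.map cL l₁⁻¹)⁻¹ := by
      rw [← hκ, orbE_mul, orbE_mul, orbE_inv, e6, hequi]
    have e8 : Pt.map (Th K w) (Pt.map cS (l₁⁻¹ * u₁⁻¹ * l₁⁻¹⁻¹) *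
        (Pt.map cS l₁⁻¹ * ι * (Pt.map cS l₁⁻¹)⁻¹)) = Pt.map cL (l₁⁻¹ * u₁⁻¹ * l₁⁻¹⁻¹) *
          (Pt.map cL l₁⁻¹ * Pt.map (Th K w) ι * (Pt.map cL l₁⁻¹)⁻¹) := by
      simp only [Pt.map_mul, Pt.map_inv, Pt.map_map, hcT]
    rw [e8, ← e7, ← e3, orbE]
    group
  have hTF : Th K w F = LaurentPolynomial.T (D : ℤ) * chi K S (MvPolynomial.aeval ρ h) := by
    change Th K w (MvPolynomial.aeval ζ h) = _
    rw [MvPolynomial.comp_aeval_apply (R := K) (f := ζ) (Th K w) h, hTζ,
      aeval_scale hhom, ← MvPolynomial.comp_aeval_apply (R := K) (f := ρ) (chi K S) h]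
    congr 1
    change (LaurentPolynomial.T 1 : S[T;T⁻¹]) ^ D = _
    rw [LaurentPolynomial.T_pow, mul_one]
  have hcomp : MvPolynomial.weightedHomogeneousComponent w D F = MvPolynomial.aeval ξ' h := by
    rw [← coeff_Th, hTF, coeff_chi D _ le_rfl, if_pos rfl, ← ev0_apply (k := K),
      MvPolynomial.comp_aeval_apply (R := K) (f := ρ) (ev0 K S) h, hρ0]
  have hbig : ∀ d ∈ F.support, Finsupp.weight w d ≤ D := by
    intro d hd
    by_contra hlt
    push Not at hlt
    have h1 : MvPolynomial.weightedHomogeneousComponent w (Finsupp.weight w d) F = 0 := by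
      rw [← coeff_Th, hTF, coeff_chi D _ (by exact_mod_cast hlt.le),
        if_neg (by exact_mod_cast hlt.ne')]
    have h2 := congrArg (MvPolynomial.coeff d) h1
    classical
    rw [MvPolynomial.coeff_weightedHomogeneousComponent, if_pos rfl, MvPolynomial.coeff_zero] at h2
    exact (MvPolynomial.mem_support_iff.mp hd) h2
  -- evaluate at a nilpotent point
  obtain ⟨B, _, _, x, ξ, hx, hξ, hne⟩ := hNF
  have hnt : Nontrivial B := nontrivial_of_ne _ _ hne
  let cB : K →ₐ[K] B := Algebra.ofId K B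
  have hξU : pu E ξ ∈ UE E μ B := by
    rw [hξ]
    exact gl_mem E hred.support x _ fun c hc y => uu_mem_UE E (hpos c hc) y
  have hgU : Pt.map cB l₁ * pu E ξ * (Pt.map cB l₁)⁻¹ ∈ UE E μ B :=
    conj_mem_UE E hξU (ZE_map E cB hl₁)
  obtain ⟨η, hη1, hη2⟩ := hret B _ hgU (Ideal.span (Set.range x)) (by
    have h1 : (fun n => Ideal.Quotient.mkₐ K (Ideal.span (Set.range x)) (x n)) =
        fun _ => (0 : B ⧸ Ideal.span (Set.range x)) := by
      funext n
      exact Ideal.Quotient.eq_zero_iff_mem.mpr (Ideal.subset_span ⟨n, rfl⟩)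
    rw [Pt.map_mul, Pt.map_mul, Pt.map_inv, hξ, gl_nat, h1, gl_zero]
    group)
  have hηξ : (fun c => MvPolynomial.aeval η (ξ' c)) = ξ := by
    apply pu_inj E
    have e1 : (MvPolynomial.aeval (R := K) η).comp cS = cB := by ext
    rw [← pu_nat, ← hκ]
    simp only [Pt.map_mul, Pt.map_inv, Pt.map_map, e1, hη1]
    group
  apply hne
  rw [← hηξ, ← MvPolynomial.comp_aeval_apply (R := K) (f := ξ') (MvPolynomial.aeval (R := K) η) h,
    ← hcomp]
  exact aeval_top_eq_zero hw hbig hF η fun hk j => pow_card_eq_zero (K := K) k hx (hη2 j)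

end Groth.Agent.RedSub.H662.KeyK
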