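import Groth.Agent.RedSub.H662.Homog
import Groth.Agent.Books.DynLim

/-!
# `U_G(λ)` on points of a pinned group

`E : PinCell P b K A`, `μ` a dominant cocharacter: a point `p` over `B` such that `μ(T) p μ(T)⁻¹`
extends to `B[T]` with value `1` at `0` is a product of elements of the root groups of weight `> 0`.
-/

set_option autoImplicit false
set_option linter.unusedSectionVars false
set_option linter.dupNamespace false
universe u

open scoped LaurentPolynomial Polynomial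

namespace Groth.Agent.RedSub.H662.Lim

open Groth.Agent.Sga3B Groth.Agent.Sga3B.Cell Groth.Agent.Sga3B.Word
open Groth.Agent.RedSub.H638.WeylBase Groth.Agent.RedSub.H638.WeylCover
open Groth.Agent.Books.DynBasic Groth.Agent.Books.DynLim
open Panel PosPt Van Homog

variable {idx M : Type} [Fintype idx] [AddCommGroup M] [Module.Free ℤ M]
    [Module.Finite ℤ M] {P : RootPairing idx ℤ M (Module.Dual ℤ M)} {b : P.Base}
variable {K : Type u} [Field K] {A : Type u} [CommRing A] [Algebra K A] [PtGrp K A]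
  (E : PinCell P b K A)
variable {B : Type u} [CommRing B] [Algebra K B]

/-- being in the big cell can be tested at points with values in fields -/
lemma inC_of_fields {g : Pt K A B}
    (h : ∀ (F : Type u) [Field F] [Algebra K F] (φ : B →ₐ[K] F), InC E (Pt.map φ g)) : InC E g := by
  rw [inC_iff_ideal]
  by_contra hne
  obtain ⟨I, hI, hle⟩ := Ideal.exists_le_maximal _ hne
  let _ := Ideal.Quotient.field I
  have h1 := h (B ⧸ I) (Ideal.Quotient.mkₐ K I)
  rw [inC_iff_ideal] at h1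
  have h2 : E.cellIdeal.map (Pt.map (Ideal.Quotient.mkₐ K I) g).hom.toRingHom =
      (E.cellIdeal.map g.hom.toRingHom).map (Ideal.Quotient.mk I) := by
    rw [Ideal.map_map]; rfl
  have h3 : (E.cellIdeal.map g.hom.toRingHom).map (Ideal.Quotient.mk I) ≤ ⊥ := by
    refine (Ideal.map_mono hle).trans ?_
    rw [Ideal.map_le_iff_le_comap]
    intro z hz
    rw [Ideal.mem_comap, Ideal.mem_bot, Ideal.Quotient.eq_zero_iff_mem.mpr hz]
  rw [← h2, h1, top_le_iff] at h3
  exact bot_ne_top h3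

/-- the orbit `μ(T) p μ(T)⁻¹` -/
noncomputable def orbE (μ : Module.Dual ℤ M) (p : Pt K A B) : Pt K A B[T;T⁻¹] :=
  E.i _ (TPt.cow μ (uT B)) * Pt.map (cst K B) p * (E.i _ (TPt.cow μ (uT B)))⁻¹

/-- the limit exists and is `1` -/
def LimOneE (μ : Module.Dual ℤ M) (p : Pt K A B) : Prop :=
  ∃ q : Pt K A B[X], Pt.map (tl K B) q = orbE E μ p ∧ Pt.map (ev0 K B) q = 1

/-- the limit exists -/
def LimExE (μ : Module.Dual ℤ M) (p : Pt K A B) : Prop :=
  ∃ q : Pt K A B[X], Pt.map (tl K B) q = orbE E μ p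

lemma orbE_mul (μ : Module.Dual ℤ M) (p q : Pt K A B) :
    orbE E μ (p * q) = orbE E μ p * orbE E μ q := by
  rw [orbE, orbE, orbE, Pt.map_mul]; group

lemma orbE_inv (μ : Module.Dual ℤ M) (p : Pt K A B) :
    orbE E μ p⁻¹ = (orbE E μ p)⁻¹ := by
  rw [orbE, orbE, Pt.map_inv]; group

lemma orbE_one (μ : Module.Dual ℤ M) : orbE E μ (1 : Pt K A B) = 1 := by
  rw [orbE, Pt.map_one]; group

lemma orbE_uu (μ : Module.Dual ℤ M) (c : idx) (x : B) :
    orbE E μ (E.uu c B x) = E.uu c _ (LaurentPolynomial.T (μ (P.root c)) * LaurentPolynomial.C x) := by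
  rw [orbE, E.uu_nat, E.rel, TPt.ch_cow, uT_zpow]
  rfl

lemma orbE_i (μ : Module.Dual ℤ M) (t : TPt M B) :
    orbE E μ (E.i B t) = Pt.map (cst K B) (E.i B t) := by
  rw [orbE, E.i_nat, i_conj_i]

/-- the subgroup `U_G(μ)` -/
def UE (μ : Module.Dual ℤ M) (B : Type u) [CommRing B] [Algebra K B] : Subgroup (Pt K A B) where
  carrier := {p | LimOneE E μ p}
  one_mem' := ⟨1, by rw [orbE_one, Pt.map_one], Pt.map_one _⟩
  mul_mem' := by
    rintro p q ⟨p', h1, h2⟩ ⟨q', h3, h4⟩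
    exact ⟨p' * q', by rw [Pt.map_mul, h1, h3, orbE_mul], by rw [Pt.map_mul, h2, h4, mul_one]⟩
  inv_mem' := by
    rintro p ⟨p', h1, h2⟩
    exact ⟨p'⁻¹, by rw [Pt.map_inv, h1, orbE_inv], by rw [Pt.map_inv, h2, inv_one]⟩

/-- the subgroup `P_G(μ)` -/
def PE (μ : Module.Dual ℤ M) (B : Type u) [CommRing B] [Algebra K B] : Subgroup (Pt K A B) where
  carrier := {p | LimExE E μ p}
  one_mem' := ⟨1, by rw [orbE_one, Pt.map_one]⟩
  mul_mem' := by
    rintro p q ⟨p', h1⟩ ⟨q', h3⟩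
    exact ⟨p' * q', by rw [Pt.map_mul, h1, h3, orbE_mul]⟩
  inv_mem' := by
    rintro p ⟨p', h1⟩
    exact ⟨p'⁻¹, by rw [Pt.map_inv, h1, orbE_inv]⟩

/-- the subgroup `Z_G(μ)` -/
def ZE (μ : Module.Dual ℤ M) (B : Type u) [CommRing B] [Algebra K B] : Subgroup (Pt K A B) where
  carrier := {p | orbE E μ p = Pt.map (cst K B) p}
  one_mem' := by
    change orbE E μ 1 = _
    rw [orbE_one, Pt.map_one]
  mul_mem' := by
    intro p q h1 h2
    change orbE E μ (p * q) = _
    rw [orbE_mul, Pt.map_mul]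
    exact congrArg₂ _ h1 h2
  inv_mem' := by
    intro p h1
    change orbE E μ p⁻¹ = _
    rw [orbE_inv, Pt.map_inv]
    exact congrArg _ h1

lemma uu_mem_UE {μ : Module.Dual ℤ M} {c : idx} (hc : 0 < μ (P.root c)) (x : B) :
    E.uu c B x ∈ UE E μ B := by
  obtain ⟨n, hn⟩ : ∃ n : ℕ, (n : ℤ) = μ (P.root c) := ⟨_, Int.toNat_of_nonneg hc.le⟩
  refine ⟨E.uu c _ (Polynomial.X ^ n * Polynomial.C x), ?_, ?_⟩
  · rw [orbE_uu, E.uu_nat, ← hn]
    congr 1
    simp
  · rw [E.uu_nat, ev0_apply, Polynomial.coeff_X_pow_mul', if_neg (by omega), E.uu_zero]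

lemma uu_mem_PE {μ : Module.Dual ℤ M} {c : idx} (hc : 0 ≤ μ (P.root c)) (x : B) :
    E.uu c B x ∈ PE E μ B := by
  obtain ⟨n, hn⟩ : ∃ n : ℕ, (n : ℤ) = μ (P.root c) := ⟨_, Int.toNat_of_nonneg hc⟩
  refine ⟨E.uu c _ (Polynomial.X ^ n * Polynomial.C x), ?_⟩
  rw [orbE_uu, E.uu_nat, ← hn]
  congr 1
  simp

lemma uu_mem_ZE {μ : Module.Dual ℤ M} {c : idx} (hc : μ (P.root c) = 0) (x : B) :
    E.uu c B x ∈ ZE E μ B := by
  change orbE E μ _ = _
  rw [orbE_uu, hc, LaurentPolynomial.T_zero, one_mul, E.uu_nat]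
  rfl

lemma i_mem_ZE {μ : Module.Dual ℤ M} (t : TPt M B) : E.i B t ∈ ZE E μ B := orbE_i E μ t

lemma UE_le_PE (μ : Module.Dual ℤ M) : UE E μ B ≤ PE E μ B := fun _ ⟨q, h, _⟩ => ⟨q, h⟩

lemma ZE_le_PE (μ : Module.Dual ℤ M) : ZE E μ B ≤ PE E μ B := by
  intro p hp
  refine ⟨Pt.map (IsScalarTower.toAlgHom K B B[X]) p, ?_⟩
  rw [Pt.map_map]
  refine Eq.trans ?_ (Eq.symm hp)
  congr 1
  ext x
  simp

/-- `Z_G(μ)` normalises `U_G(μ)`. -/
lemma conj_mem_UE {μ : Module.Dual ℤ M} {p z : Pt K A B} (hp : p ∈ UE E μ B) (hz : z ∈ ZE E μ B) :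
    z * p * z⁻¹ ∈ UE E μ B := by
  obtain ⟨q, h1, h2⟩ := hp
  let ι : B →ₐ[K] B[X] := IsScalarTower.toAlgHom K B B[X]
  have e1 : (tl K B).comp ι = cst K B := by
    ext x
    simp [ι]
  have e2 : (ev0 K B).comp ι = AlgHom.id K B := by
    ext x
    simp [ι, ev0_apply]
  refine ⟨Pt.map ι z * q * (Pt.map ι z)⁻¹, ?_, ?_⟩
  · have hz' : orbE E μ z = Pt.map (cst K B) z := hz
    rw [Pt.map_mul, Pt.map_mul, Pt.map_inv, Pt.map_map, e1, orbE_mul, orbE_mul, orbE_inv, hz', h1]
  · rw [Pt.map_mul, Pt.map_mul, Pt.map_inv, Pt.map_map, e2, h2, mul_one, mul_inv_cancel]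

lemma inC_of_limOneE_field {F : Type u} [Field F] [Algebra K F] {μ : Module.Dual ℤ M}
    {p : Pt K A F} (hp : LimOneE E μ p) : InC E p := by
  obtain ⟨q, h1, h2⟩ := hp
  let Q := FractionRing F[X]
  let ι : F[X] →ₐ[K] Q := IsScalarTower.toAlgHom K F[X] Q
  have hι : Function.Injective ι := IsFractionRing.injective F[X] Q
  obtain ⟨B', _, _, j, ι', φ', e1, e2, e3, e4⟩ := exists_localization E ι hι (ev0 K F) (g := q)
    (by rw [h2]; exact inC_one E)
  have h3 := InC.map E ι' e4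
  rw [Pt.map_map, e1] at h3
  -- the map `F[T;T⁻¹] → Q`
  have hX : ι Polynomial.X ≠ 0 := fun h0 => Polynomial.X_ne_zero (hι (by rw [h0, map_zero]))
  let v : Qˣ := Units.mk0 _ hX
  let ψ : F[T;T⁻¹] →ₐ[F] Q := evU F v
  have hψ : (ψ.restrictScalars K).comp (tl K F) = ι := by
    have : (ψ.comp (Polynomial.toLaurentAlg (R := F))) = IsScalarTower.toAlgHom F F[X] Q := by
      ext
      change evU F v (Polynomial.toLaurent Polynomial.X) = ι Polynomial.X
      rw [Polynomial.toLaurent_X, evU_T, zpow_one]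
      rfl
    exact congrArg (AlgHom.restrictScalars K) this
  have hψ2 : (ψ.restrictScalars K).comp (cst K F) = IsScalarTower.toAlgHom K F Q := by
    ext x
    change evU F v (algebraMap F F[T;T⁻¹] x) = _
    rw [AlgHom.commutes]
    rfl
  rw [← hψ, ← Pt.map_map, h1, orbE, Pt.map_mul, Pt.map_mul, Pt.map_inv, Pt.map_map, hψ2,
    E.i_nat, inC_mul_bor E (inv_mem (i_mem_Bor E _)), inC_i_mul, inC_map_field] at h3
  exact h3

section maps

variable {C : Type u} [CommRing C] [Algebra K C]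

/-- functoriality of Laurent polynomials -/
noncomputable def lL (φ : B →ₐ[K] C) : B[T;T⁻¹] →ₐ[K] C[T;T⁻¹] := AddMonoidAlgebra.mapAlgHom ℤ φ

/-- functoriality of polynomials -/
noncomputable def lP (φ : B →ₐ[K] C) : B[X] →ₐ[K] C[X] := Polynomial.mapAlgHom φ

lemma lL_comp_tl (φ : B →ₐ[K] C) : (lL φ).comp (tl K B) = (tl K C).comp (lP φ) := by
  apply AlgHom.ext
  intro p
  change AddMonoidAlgebra.mapAlgHom ℤ φ (Polynomial.toLaurent p) =
    Polynomial.toLaurent (Polynomial.map φ p)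
  induction p using Polynomial.induction_on' with
  | add p q hp hq => simp only [map_add, Polynomial.map_add, hp, hq]
  | monomial n x =>
    rw [Polynomial.map_monomial, Polynomial.toLaurent_C_mul_T, Polynomial.toLaurent_C_mul_T,
      ← LaurentPolynomial.single_eq_C_mul_T, ← LaurentPolynomial.single_eq_C_mul_T,
      AddMonoidAlgebra.mapAlgHom_single]
    rfl

lemma ev0_comp_lP (φ : B →ₐ[K] C) : (ev0 K C).comp (lP φ) = φ.comp (ev0 K B) := by
  apply AlgHom.ext
  intro p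
  rw [AlgHom.comp_apply, AlgHom.comp_apply, ev0_apply, ev0_apply]
  exact Polynomial.coeff_map _ _

lemma orbE_map (φ : B →ₐ[K] C) (μ : Module.Dual ℤ M) (p : Pt K A B) :
    Pt.map (lL φ) (orbE E μ p) = orbE E μ (Pt.map φ p) := by
  have h1 : TPt.map (lL φ) (TPt.cow μ (uT B) : TPt M B[T;T⁻¹]) = TPt.cow μ (uT C) := by
    have h2 : Units.map (lL φ : B[T;T⁻¹] →* C[T;T⁻¹]) (uT B) = uT C := map_uT φ
    rw [TPt.map_cow, h2]
  have h2 : (lL φ).comp (cst K B) = (cst K C).comp φ := map_comp_cst φ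
  rw [orbE, orbE, Pt.map_mul, Pt.map_mul, Pt.map_inv, E.i_nat, h1, Pt.map_map, Pt.map_map, h2]

lemma UE_map (φ : B →ₐ[K] C) {μ : Module.Dual ℤ M} {p : Pt K A B} (hp : p ∈ UE E μ B) :
    Pt.map φ p ∈ UE E μ C := by
  obtain ⟨q, h1, h2⟩ := hp
  refine ⟨Pt.map (lP φ) q, ?_, ?_⟩
  · rw [Pt.map_map, ← lL_comp_tl, ← Pt.map_map, h1, orbE_map]
  · rw [Pt.map_map, ev0_comp_lP, ← Pt.map_map, h2, Pt.map_one]

lemma PE_map (φ : B →ₐ[K] C) {μ : Module.Dual ℤ M} {p : Pt K A B} (hp : p ∈ PE E μ B) :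
    Pt.map φ p ∈ PE E μ C := by
  obtain ⟨q, h1⟩ := hp
  refine ⟨Pt.map (lP φ) q, ?_⟩
  rw [Pt.map_map, ← lL_comp_tl, ← Pt.map_map, h1, orbE_map]

lemma ZE_map (φ : B →ₐ[K] C) {μ : Module.Dual ℤ M} {p : Pt K A B} (hp : p ∈ ZE E μ B) :
    Pt.map φ p ∈ ZE E μ C := by
  have h1 : orbE E μ p = Pt.map (cst K B) p := hp
  change orbE E μ _ = _
  have h2 : (lL φ).comp (cst K B) = (cst K C).comp φ := map_comp_cst φ
  rw [← orbE_map, h1, Pt.map_map, Pt.map_map, h2]

end maps

lemma inC_of_limOneE {μ : Module.Dual ℤ M} {p : Pt K A B} (hp : LimOneE E μ p) : InC E p :=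
  inC_of_fields E fun _ _ _ φ => inC_of_limOneE_field E (UE_map E φ hp)

/-- the limit curve is in the big cell -/
lemma inC_curve {μ : Module.Dual ℤ M} {p : Pt K A B} {q : Pt K A B[X]}
    (h1 : Pt.map (tl K B) q = orbE E μ p) (h2 : Pt.map (ev0 K B) q = 1) : InC E q := by
  have hp : InC E p := inC_of_limOneE E ⟨q, h1, h2⟩
  refine inC_of_fields E fun F _ _ φ => ?_
  let ι : B →ₐ[K] B[X] := IsScalarTower.toAlgHom K B B[X]
  let ψ : B →ₐ[K] F := φ.comp ι
  by_cases hs : φ Polynomial.X = 0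
  · have hφ : φ = ψ.comp (ev0 K B) := by
      apply AlgHom.ext
      intro f
      rw [AlgHom.comp_apply, ev0_apply]
      induction f using Polynomial.induction_on' with
      | add f g hf hg => rw [map_add, hf, hg, Polynomial.coeff_add, map_add]
      | monomial n x =>
        rw [← Polynomial.C_mul_X_pow_eq_monomial, map_mul, map_pow, hs]
        cases n with
        | zero =>
          rw [pow_zero, mul_one, pow_zero, mul_one, Polynomial.coeff_C_zero]
          rfl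
        | succ n => simp
    rw [hφ, ← Pt.map_map, h2, Pt.map_one]
    exact inC_one E
  · let _ : Algebra B F := ψ.toRingHom.toAlgebra
    have : IsScalarTower K B F := IsScalarTower.of_algebraMap_eq' ψ.comp_algebraMap.symm
    let v : Fˣ := Units.mk0 _ hs
    let χ : B[T;T⁻¹] →ₐ[K] F := (evU B v).restrictScalars K
    have hχ1 : χ.comp (tl K B) = φ := by
      apply AlgHom.ext
      intro f
      change evU B v (Polynomial.toLaurent f) = φ f
      induction f using Polynomial.induction_on' with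
      | add f g hf hg => rw [map_add, map_add, hf, hg, map_add]
      | monomial n x =>
        rw [Polynomial.toLaurent_C_mul_T, map_mul, evU_T, ← Polynomial.C_mul_X_pow_eq_monomial,
          map_mul, map_pow, zpow_natCast, Units.val_pow_eq_pow_val]
        congr 1
        have : (LaurentPolynomial.C x : B[T;T⁻¹]) = algebraMap B B[T;T⁻¹] x := rfl
        rw [this, AlgHom.commutes]
        rfl
    have hχ2 : χ.comp (cst K B) = ψ := by
      apply AlgHom.ext
      intro x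
      change evU B v (algebraMap B B[T;T⁻¹] x) = _
      rw [AlgHom.commutes]
      rfl
    rw [← hχ1, ← Pt.map_map, h1, orbE, Pt.map_mul, Pt.map_mul, Pt.map_inv, Pt.map_map, hχ2,
      E.i_nat, inC_mul_bor E (inv_mem (i_mem_Bor E _)), inC_i_mul]
    exact InC.map E ψ hp

lemma posP_nat {C : Type u} [CommRing C] [Algebra K C] (φ : B →ₐ[K] C) (y : idx → B) :
    Pt.map φ (posP E y) = posP E (fun c => φ (y c)) := by
  rw [posP, posP, Pt.map_list_prod, List.map_map]
  congr 1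
  apply List.map_congr_left
  intro c _
  simp [E.uu_nat]

lemma negP_nat {C : Type u} [CommRing C] [Algebra K C] (φ : B →ₐ[K] C) (y : idx → B) :
    Pt.map φ (negP E y) = negP E (fun c => φ (y c)) := by
  rw [negP, negP, Pt.map_list_prod, List.map_map]
  congr 1
  apply List.map_congr_left
  intro c _
  simp [E.uu_nat]

lemma i_mul_negP (t : TPt M B) (z : idx → B) :
    E.i B t * negP E z = negP E (fun c => TPt.ch (P.root c) t * z c) * E.i B t :=
  E.toDatum.i_mul_prod (negList b) z t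

lemma orbE_posP (μ : Module.Dual ℤ M) (y : idx → B) : orbE E μ (posP E y) =
    posP E (fun c => LaurentPolynomial.T (μ (P.root c)) * LaurentPolynomial.C (y c)) := by
  rw [orbE, posP_nat, i_mul_posP, mul_inv_cancel_right]
  congr 1
  funext c
  rw [TPt.ch_cow, uT_zpow]
  rfl

lemma orbE_negP (μ : Module.Dual ℤ M) (y : idx → B) : orbE E μ (negP E y) =
    negP E (fun c => LaurentPolynomial.T (μ (P.root c)) * LaurentPolynomial.C (y c)) := by
  rw [orbE, negP_nat, i_mul_negP, mul_inv_cancel_right]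
  congr 1
  funext c
  rw [TPt.ch_cow, uT_zpow]
  rfl

omit [Algebra K B] in
lemma coeff_eq {p : B[X]} {e : ℤ} {x : B} (he : e ≤ 0)
    (h : Polynomial.toLaurent p = LaurentPolynomial.T e * LaurentPolynomial.C x)
    (h0 : p.coeff 0 = 0) : x = 0 := by
  have h1 : (LaurentPolynomial.T e * LaurentPolynomial.C x : B[T;T⁻¹]).coeff e = x := by
    rw [mul_comm, ← LaurentPolynomial.single_eq_C_mul_T, AddMonoidAlgebra.coeff_single,
      Finsupp.single_eq_same]
  rw [← h] at h1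
  rcases he.lt_or_eq with he | rfl
  · rw [← h1]
    exact (exists_toLaurent_iff _).1 ⟨p, rfl⟩ e he
  · rw [← h1, ← h0]
    exact coeff_toLaurent_nat p 0

/-- **Points of `U_G(μ)`.** -/
theorem mem_UE_iff {μ : Module.Dual ℤ M} (hμ : ∀ a ∈ b.support, 0 ≤ μ (P.root a)) {p : Pt K A B} :
    p ∈ UE E μ B ↔ ∃ x : PI b → B, (∀ c, wt b μ c = 0 → x c = 0) ∧ p = pu E x := by
  constructor
  · rintro ⟨q, h1, h2⟩
    obtain ⟨_, ⟨c, rfl⟩, _, ⟨_, ⟨y, rfl⟩, t, rfl⟩, hp⟩ := (inC_iff E).mp (inC_of_limOneE E ⟨q, h1, h2⟩)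
    obtain ⟨_, ⟨c', rfl⟩, _, ⟨_, ⟨y', rfl⟩, t', rfl⟩, hq⟩ := (inC_iff E).mp (inC_curve E h1 h2)
    rw [← mul_assoc] at hp hq
    subst hp hq
    rw [orbE_mul, orbE_mul, orbE_negP, orbE_posP, orbE_i, E.i_nat, Pt.map_mul, Pt.map_mul,
      negP_nat, posP_nat, E.i_nat] at h1
    obtain ⟨h3, h4, h5⟩ := join_inj E h1
    have h6 : Pt.map (ev0 K B) (negP E c' * posP E y' * E.i _ t') =
        negP E 0 * posP E 0 * E.i B 1 := by
      rw [h2, negP_zero, posP_zero, map_one, one_mul, one_mul]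
    rw [Pt.map_mul, Pt.map_mul, negP_nat, posP_nat, E.i_nat] at h6
    obtain ⟨h7, h8, h9⟩ := join_inj E h6
    have hc : ∀ d, ¬ b.IsPos d → c d = 0 := by
      intro d hd
      refine coeff_eq (p := c' d) (e := μ (P.root d)) ?_ (h3 d hd) ?_
      · have h10 : b.IsPos (P.reflectionPerm d d) := isPos_neg_iff.mpr hd
        have h11 := nonneg_of_isPos hμ h10
        rw [root_neg, map_neg] at h11
        omega
      · rw [← ev0_apply (k := K)]
        exact h7 d hd
    have ht : t = 1 := by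
      refine MonoidHom.ext fun m => Units.ext ?_
      have h10 : Polynomial.toLaurent ((t' m : B[X]ˣ) : B[X]) = LaurentPolynomial.C (t m : B) :=
        congrArg (fun s : TPt M B[T;T⁻¹] => ((s m : B[T;T⁻¹]ˣ) : B[T;T⁻¹])) h5
      have h11 : ev0 K B ((t' m : B[X]ˣ) : B[X]) = 1 :=
        congrArg (fun s : TPt M B => ((s m : Bˣ) : B)) h9
      rw [ev0_apply] at h11
      have h12 := coeff_toLaurent_nat ((t' m : B[X]ˣ) : B[X]) 0
      rw [h10, h11] at h12
      change (t m : B) = 1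
      rw [← h12, LaurentPolynomial.C_apply]
      simp
    have hneg : negP E c = 1 := by
      rw [← negP_zero E (B := B)]
      exact negP_congr E fun d hd => hc d hd
    refine ⟨fun d => y d, fun d hd => ?_, ?_⟩
    · refine coeff_eq (p := y' d) (e := μ (P.root d)) ?_ (h4 d d.2) ?_
      · rw [← wt_eq hμ d, hd]; rfl
      · rw [← ev0_apply (k := K)]
        exact h8 d d.2
    · rw [hneg, ht, map_one, one_mul, mul_one]
      apply posP_congr
      intro d hd
      rw [ext0_pos _ hd]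
  · rintro ⟨x, hx, rfl⟩
    rw [pu, posP]
    apply Subgroup.list_prod_mem
    intro y hy
    obtain ⟨c, hc, rfl⟩ := List.mem_map.mp hy
    rw [mem_posList] at hc
    rw [ext0_pos _ hc]
    by_cases h0 : wt b μ ⟨c, hc⟩ = 0
    · rw [hx _ h0, E.uu_zero]
      exact one_mem _
    · apply uu_mem_UE E
      rw [← wt_eq hμ ⟨c, hc⟩]
      exact_mod_cast Nat.pos_of_ne_zero h0

end Groth.Agent.RedSub.H662.Lim
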