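import Groth.Agent.RedSub.H662.KeyK
import Groth.Agent.RedSub.H639.PinBuildX
import Groth.Agent.Sga3B.Parab.DynBc998
import Groth.Agent.Sga3B.Parab.DynLevi998
import Groth.Agent.Sga3B.Parab.OppS172
import Groth.Agent.Sga3B.Par.CanDef

/-!
# Points of `G` over `S` with values in `K`-algebras, in terms of a pinned chart of `G_K`

`x : Spec K ⟶ S`, `C` a pinned chart of `G_K`.  For a `K`-algebra `B` the points `Spec B ⟶ G` over `S`
are the points `Pt K C.A B`; conditions on limits correspond.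
-/

set_option autoImplicit false
set_option linter.unusedSectionVars false
set_option linter.dupNamespace false
universe u

open CategoryTheory MonoidalCategory CartesianMonoidalCategory MonObj GrpObj AlgebraicGeometry Limits
open scoped LaurentPolynomial Polynomial

namespace Groth.Agent.RedSub.H662.PK

open Groth.Agent.Sga3B Groth.Agent.Sga3B.PinMod Groth.Agent.Sga3B.DSPts
open Groth.Agent.Sga3B.Cell hiding uT uT_zpow
open Groth.Agent.Sga3B.Parab Groth.Agent.Sga3B.Parab.Dyn998 Groth.Agent.Sga3B.Parab.DynBc998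
open Groth.Agent.RedSub.H639.PinBuildX
open Groth.Agent.Books.DynLim
open Groth.Agent.Books.DynBasic hiding orb
open Groth.Agent.Sga3B.PinFinal (jOf)
open Lim

variable {S : Scheme.{u}} {G : Over S} [GrpObj G] {K : Type u} [Field K]
  (x : Spec (CommRingCat.of K) ⟶ S) {D : Red.Pinning (Red.bc x G)}
  (C : PinChart D (𝟙 (Spec (CommRingCat.of K))))

section

variable {B : Type u} [CommRing B] [Algebra K B] {c : Spec (CommRingCat.of B) ⟶ S}

/-- comparison of test objects -/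
noncomputable def iK (hc : Spec.map (CommRingCat.ofHom (algebraMap K B)) ≫ x = c) :
    aff B c ≅ (Over.map x).obj (tB (𝟙 (Spec (CommRingCat.of K))) B) :=
  Over.isoMk (Iso.refl _) (by
    change 𝟙 _ ≫ (Spec.map (CommRingCat.ofHom (algebraMap K B)) ≫ 𝟙 _) ≫ x = c
    rw [Category.id_comp, Category.comp_id, hc])

/-- the dictionary -/
noncomputable def PK (hc : Spec.map (CommRingCat.ofHom (algebraMap K B)) ≫ x = c) :
    Pt K C.A B ≃* (aff B c ⟶ G) := (C.pts B).trans (dnI x (iK x hc))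

lemma PK_apply (hc : Spec.map (CommRingCat.ofHom (algebraMap K B)) ≫ x = c) (p : Pt K C.A B) :
    PK x C hc p = dnI x (iK x hc) (C.pts B p) := rfl

lemma PK_nat {B' : Type u} [CommRing B'] [Algebra K B'] {c' : Spec (CommRingCat.of B') ⟶ S}
    (hc : Spec.map (CommRingCat.ofHom (algebraMap K B)) ≫ x = c)
    (hc' : Spec.map (CommRingCat.ofHom (algebraMap K B')) ≫ x = c') (φ : B →ₐ[K] B')
    (y : aff B' c' ⟶ aff B c) (hy : y.left = Spec.map (CommRingCat.ofHom φ.toRingHom))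
    (p : Pt K C.A B) : y ≫ PK x C hc p = PK x C hc' (Pt.map φ p) := by
  rw [PK_apply, PK_apply, ← C.pts_nat]
  refine (dnI_comp x _ _ (tMap (𝟙 _) φ) y ?_ _).symm
  rw [hy]
  change 𝟙 _ ≫ Spec.map _ = Spec.map _ ≫ 𝟙 _
  rw [Category.id_comp, Category.comp_id]
  rfl

include x in
lemma hcL (hc : Spec.map (CommRingCat.ofHom (algebraMap K B)) ≫ x = c) :
    Spec.map (CommRingCat.ofHom (algebraMap K B[T;T⁻¹])) ≫ x =
    Spec.map (CommRingCat.ofHom (algebraMap B B[T;T⁻¹])) ≫ c := by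
  rw [← hc, ← Category.assoc, ← Spec.map_comp, ← CommRingCat.ofHom_comp]

include x in
lemma hcP (hc : Spec.map (CommRingCat.ofHom (algebraMap K B)) ≫ x = c) :
    Spec.map (CommRingCat.ofHom (algebraMap K B[X])) ≫ x =
    Spec.map (CommRingCat.ofHom (algebraMap B B[X])) ≫ c := by
  rw [← hc, ← Category.assoc, ← Spec.map_comp, ← CommRingCat.ofHom_comp]

variable (K B) in
lemma spec_tower : Spec.map (CommRingCat.ofHom (algebraMap K B[T;T⁻¹])) =
      Spec.map (CommRingCat.ofHom (algebraMap B B[T;T⁻¹])) ≫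
        Spec.map (CommRingCat.ofHom (algebraMap K B)) := by
  rw [← Spec.map_comp, ← CommRingCat.ofHom_comp, ← IsScalarTower.algebraMap_eq]

variable (K B) in
lemma gmoTB_w : 𝟙 (Spec (CommRingCat.of B[T;T⁻¹])) ≫
      (Spec.map (CommRingCat.ofHom (algebraMap K B[T;T⁻¹])) ≫ 𝟙 _) =
    Spec.map (CommRingCat.ofHom (algebraMap B B[T;T⁻¹])) ≫
        Spec.map (CommRingCat.ofHom (algebraMap K B)) := by
  rw [Category.id_comp, Category.comp_id]
  exact spec_tower K B

variable (K B) in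
/-- comparison of test objects -/
noncomputable def gmoTB : gmo B (Spec.map (CommRingCat.ofHom (algebraMap K B))) ⟶
    tB (𝟙 (Spec (CommRingCat.of K))) B[T;T⁻¹] :=
  Over.homMk (𝟙 (Spec (CommRingCat.of B[T;T⁻¹]))) (gmoTB_w K B)

lemma gmoTB_left : (gmoTB K B).left = 𝟙 (Spec (CommRingCat.of B[T;T⁻¹])) := rfl

variable (K B) in
lemma tPt_DSmap {M : Type} [AddCommGroup M] (mu : Module.Dual ℤ M) :
    tPt B (Spec.map (CommRingCat.ofHom (algebraMap K B))) ≫ Red.DSmap _ mu.toAddMonoidHom =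
      gmoTB K B ≫ dsEquiv (tB (𝟙 _) B[T;T⁻¹]) M (chΓ (𝟙 _) (TPt.cow mu (uT B))) := by
  rw [tPt, dsEquiv_DSmap, dsEquiv_naturality]
  congr 1
  refine MonoidHom.ext fun m => ?_
  have h1 : ∀ z : Γ(Spec (CommRingCat.of B[T;T⁻¹]), ⊤), (gmoTB K B).left.appTop.hom z = z := by
    intro z
    rw [gmoTB_left, Scheme.Hom.id_appTop]
    rfl
  rw [MonoidHom.comp_apply, MonoidHom.comp_apply]
  refine Eq.trans ?_ (h1 _).symm
  change (Scheme.ΓSpecIso (CommRingCat.of B[T;T⁻¹])).inv (LaurentPolynomial.T (mu m.toAdd)) =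
    (Scheme.ΓSpecIso (CommRingCat.of B[T;T⁻¹])).inv
            (((uT B) ^ (mu m.toAdd) : B[T;T⁻¹]ˣ) : B[T;T⁻¹])
  rw [uT_zpow]

variable {lam : Red.Gm S ⟶ G} {mu : Module.Dual ℤ D.M}
  (hlam : bcLam lam x = Par.coch D.toSplitRed mu)

include hlam in
lemma PK_cow (hc : Spec.map (CommRingCat.ofHom (algebraMap K B)) ≫ x = c) :
    tPt B c ≫ lam = PK x C (hcL x hc) (C.E.i _ (TPt.cow mu (uT B))) := by
  subst hc
  have h1 : tPt B (Spec.map (CommRingCat.ofHom (algebraMap K B))) ≫ Par.coch D.toSplitRed mu =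
      gmoTB K B ≫ dsEquiv (tB (𝟙 _) B[T;T⁻¹]) D.M (chΓ (𝟙 _) (TPt.cow mu (uT B))) ≫
        jOf D.toSplitRed := by
    rw [Par.coch, Par.cochT, Category.assoc, ← Category.assoc (tPt _ _), tPt_DSmap K B,
      Category.assoc]
  rw [← dn_tPt x lam, hlam, PK_apply, C.pts_i, h1]
  refine (dnI_comp x (gmoI x _) (iK x (hcL x rfl)) (gmoTB K B)
    (𝟙 (gmo B (Spec.map (CommRingCat.ofHom (algebraMap K B)) ≫ x))) ?_ _).trans
    (Category.id_comp _)
  rw [gmoTB_left]
  rfl

include hlam in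
lemma PK_orb (hc : Spec.map (CommRingCat.ofHom (algebraMap K B)) ≫ x = c) (p : Pt K C.A B) :
    orb lam (PK x C hc p) = PK x C (hcL x hc) (orbE C.E mu p) := by
  rw [orb, orbE, map_mul, map_mul, map_inv, PK_cow x C hlam hc,
    PK_nat x C hc (hcL x hc) (cst K B) (gmPr B c) rfl]

include hlam in
lemma limOne_iff (hc : Spec.map (CommRingCat.ofHom (algebraMap K B)) ≫ x = c) (p : Pt K C.A B) :
    LimOne lam (PK x C hc p) ↔ p ∈ UE C.E mu B := by
  constructor
  · rintro ⟨h, h1, h2⟩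
    obtain ⟨q, rfl⟩ := (PK x C (hcP x hc)).surjective h
    refine ⟨q, ?_, ?_⟩
    · apply (PK x C (hcL x hc)).injective
      rw [← PK_nat x C (hcP x hc) (hcL x hc) (tl K B) (toLin B c) rfl, h1, PK_orb x C hlam]
    · apply (PK x C hc).injective
      rw [← PK_nat x C (hcP x hc) hc (ev0 K B) (zeroSec B c) rfl, h2, map_one]
  · rintro ⟨q, h1, h2⟩
    refine ⟨PK x C (hcP x hc) q, ?_, ?_⟩
    · rw [PK_nat x C (hcP x hc) (hcL x hc) (tl K B) (toLin B c) rfl, h1, PK_orb x C hlam]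
    · rw [PK_nat x C (hcP x hc) hc (ev0 K B) (zeroSec B c) rfl, h2, map_one]

include hlam in
lemma limEx_iff (hc : Spec.map (CommRingCat.ofHom (algebraMap K B)) ≫ x = c) (p : Pt K C.A B) :
    LimEx lam (PK x C hc p) ↔ p ∈ PE C.E mu B := by
  constructor
  · rintro ⟨h, h1⟩
    obtain ⟨q, rfl⟩ := (PK x C (hcP x hc)).surjective h
    refine ⟨q, ?_⟩
    apply (PK x C (hcL x hc)).injective
    rw [← PK_nat x C (hcP x hc) (hcL x hc) (tl K B) (toLin B c) rfl, h1, PK_orb x C hlam]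
  · rintro ⟨q, h1⟩
    refine ⟨PK x C (hcP x hc) q, ?_⟩
    rw [PK_nat x C (hcP x hc) (hcL x hc) (tl K B) (toLin B c) rfl, h1, PK_orb x C hlam]

include hlam in
lemma orbConst_iff (hc : Spec.map (CommRingCat.ofHom (algebraMap K B)) ≫ x = c) (p : Pt K C.A B) :
    OrbConst lam (PK x C hc p) ↔ p ∈ ZE C.E mu B := by
  rw [OrbConst, PK_orb x C hlam, PK_nat x C hc (hcL x hc) (cst K B) (gmPr B c) rfl,
    EmbeddingLike.apply_eq_iff_eq]
  rfl

lemma DSmap_comp' (S : Scheme.{u}) {M N L : Type} [AddCommGroup M] [AddCommGroup N]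
    [AddCommGroup L] (φ : M →+ N) (ψ : L →+ M) :
    Red.DSmap S φ ≫ Red.DSmap S ψ = Red.DSmap S (φ.comp ψ) := by
  have h : (𝟙 (Red.DS S N) ≫ Red.DSmap S φ) ≫ Red.DSmap S ψ =
      𝟙 (Red.DS S N) ≫ Red.DSmap S (φ.comp ψ) := by
    refine (DSPts.dsEquiv _ L).symm.injective ?_
    change DSPts.dsChar _ = DSPts.dsChar _
    rw [DSPts.dsChar_DSmap, DSPts.dsChar_DSmap, DSPts.dsChar_DSmap]
    rfl
  rwa [Category.id_comp, Category.id_comp] at h

include hlam in
lemma bcLam_neg : bcLam (negLam lam) x = Par.coch D.toSplitRed (-mu) := by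
  rw [OppS172.bcLam_negLam, hlam, negLam, Par.coch, Par.cochT, Par.coch, Par.cochT,
    ← Category.assoc, ← Category.assoc, DSmap_comp']
  rfl

include hlam in
/-- the Levi decomposition -/
lemma levi [IsMonHom lam] [IsAffineHom G.hom] (hc : Spec.map (CommRingCat.ofHom (algebraMap K B)) ≫ x = c)
    (q : Pt K C.A B) (hq : q ∈ PE C.E mu B) :
    ∃ u ∈ UE C.E mu B, ∃ z ∈ ZE C.E mu B, q = u * z := by
  obtain ⟨z, u, hz, hu, h⟩ := ((limEx_iff x C hlam hc q).mpr hq).exists_levi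
  obtain ⟨z, rfl⟩ := (PK x C hc).surjective z
  obtain ⟨u, rfl⟩ := (PK x C hc).surjective u
  rw [orbConst_iff x C hlam] at hz
  rw [limOne_iff x C hlam] at hu
  rw [← map_mul, EmbeddingLike.apply_eq_iff_eq] at h
  exact ⟨z * u * z⁻¹, conj_mem_UE C.E hu hz, z, hz, by rw [← h]; group⟩

end

end Groth.Agent.RedSub.H662.PK
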