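import Groth.Agent.RedSub.H638.WeylCover

/-!
# Rank one arguments for the big cell of a pinned group over a field

`E : PinCell P b R A`, `F` a field over `R`, `a` a simple root.  `InC E g` : the point `g` of the group
over `F` lies in the big cell `U⁻ B⁺`.  We describe when `u_a(s) y` and `u_a(x) n_a y` lie in the big cell,
for `y` in the big cell, and show that if `y` and `u_a(x) n_a y` are not in the big cell then no `u_a(t) y`
is.
-/

set_option autoImplicit false
set_option linter.unusedSectionVars false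
universe u

namespace Groth.Agent.RedSub.H662.Panel

open Groth.Agent.Sga3B Groth.Agent.Sga3B.Cell Groth.Agent.Sga3B.Word
open Groth.Agent.RedSub.H638.WeylBase Groth.Agent.RedSub.H638.WeylCover

variable {idx M : Type} [Fintype idx] [AddCommGroup M] [Module.Free ℤ M]
    [Module.Finite ℤ M] {P : RootPairing idx ℤ M (Module.Dual ℤ M)} {b : P.Base}
    {R A : Type u} [CommRing R] [CommRing A] [Algebra R A] [PtGrp R A] (E : PinCell P b R A)

section ring

variable {B : Type u} [CommRing B] [Algebra R B]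

/-- the point lies in the big cell -/
def InC (g : Pt R A B) : Prop := ∃ (x : idx → B) (t : TPt M B), g = E.cell x t

lemma inC_iff {g : Pt R A B} : InC E g ↔ ∃ u ∈ Um E B, ∃ v ∈ Bor E B, g = u * v :=
  inCell_iff_mul E

lemma InC.mul_bor {g c : Pt R A B} (h : InC E g) (hc : c ∈ Bor E B) : InC E (g * c) := by
  rw [inC_iff] at h ⊢
  obtain ⟨u, hu, v, hv, rfl⟩ := h
  exact ⟨u, hu, v * c, mul_mem hv hc, by rw [mul_assoc]⟩

lemma inC_mul_bor {g c : Pt R A B} (hc : c ∈ Bor E B) : InC E (g * c) ↔ InC E g := by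
  refine ⟨fun h => ?_, fun h => h.mul_bor E hc⟩
  have := h.mul_bor E (inv_mem hc)
  rwa [mul_inv_cancel_right] at this

lemma InC.um_mul {g c : Pt R A B} (h : InC E g) (hc : c ∈ Um E B) : InC E (c * g) := by
  rw [inC_iff] at h ⊢
  obtain ⟨u, hu, v, hv, rfl⟩ := h
  exact ⟨c * u, mul_mem hc hu, v, hv, by rw [mul_assoc]⟩

lemma inC_um_mul {g c : Pt R A B} (hc : c ∈ Um E B) : InC E (c * g) ↔ InC E g := by
  refine ⟨fun h => ?_, fun h => h.um_mul E hc⟩
  have := h.um_mul E (inv_mem hc)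
  rwa [inv_mul_cancel_left] at this

lemma InC.i_mul {g : Pt R A B} (h : InC E g) (t : TPt M B) : InC E (E.i B t * g) := by
  rw [inC_iff] at h ⊢
  obtain ⟨u, hu, v, hv, rfl⟩ := h
  refine ⟨E.i B t * u * (E.i B t)⁻¹, conj_i_mem_Um E t hu, E.i B t * v,
    mul_mem (i_mem_Bor E t) hv, by group⟩

lemma inC_i_mul {g : Pt R A B} (t : TPt M B) : InC E (E.i B t * g) ↔ InC E g := by
  refine ⟨fun h => ?_, fun h => h.i_mul E t⟩
  have := h.i_mul E t⁻¹
  rwa [i_inv, inv_mul_cancel_left] at this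

lemma inC_one : InC E (1 : Pt R A B) := by
  rw [inC_iff]; exact ⟨1, one_mem _, 1, one_mem _, by simp⟩

lemma inC_of_mem_Bor {g : Pt R A B} (h : g ∈ Bor E B) : InC E g := by
  simpa using (inC_one E).mul_bor E h

/-- the coordinates of a product of an element of `U⁻` and an element of `U⁺`. -/
lemma cell_join (x y : idx → B) (t : TPt M B) [∀ a, Decidable (b.IsPos a)] :
    E.cell (fun a => if b.IsPos a then y a else x a) t = negP E x * posP E y * E.i B t := by
  rw [cell_eq_mul]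
  congr 2
  · unfold negP
    congr 1
    apply List.map_congr_left
    intro a ha
    simp only [(mem_negList b).mp ha, if_false]
  · unfold posP
    congr 1
    apply List.map_congr_left
    intro a ha
    simp only [(mem_posList b).mp ha, if_true]

/-- uniqueness of the decomposition in the big cell -/
lemma join_inj {x y x' y' : idx → B} {t t' : TPt M B}
    (h : negP E x * posP E y * E.i B t = negP E x' * posP E y' * E.i B t') :
    (∀ a, ¬ b.IsPos a → x a = x' a) ∧ (∀ a, b.IsPos a → y a = y' a) ∧ t = t' := by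
  classical
  rw [← cell_join E x y t, ← cell_join E x' y' t'] at h
  obtain ⟨h1, h2⟩ := E.cell_injective h
  refine ⟨fun a ha => ?_, fun a ha => ?_, h2⟩
  · have := congrFun h1 a
    simpa [ha] using this
  · have := congrFun h1 a
    simpa [ha] using this

lemma negP_inj {x y : idx → B} (h : negP E x = negP E y) {a : idx} (ha : ¬ b.IsPos a) :
    x a = y a := by
  refine (join_inj E (y := 0) (y' := 0) (t := 1) (t' := 1) ?_).1 a ha
  rw [h]

lemma posP_inj {x y : idx → B} (h : posP E x = posP E y) {a : idx} (ha : b.IsPos a) :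
    x a = y a := by
  refine (join_inj E (x := 0) (x' := 0) (t := 1) (t' := 1) ?_).2.1 a ha
  rw [h]

lemma negP_congr {x y : idx → B} (h : ∀ a, ¬ b.IsPos a → x a = y a) : negP E x = negP E y := by
  unfold negP
  congr 1
  apply List.map_congr_left
  intro a ha
  rw [h a ((mem_negList b).mp ha)]

lemma posP_congr {x y : idx → B} (h : ∀ a, b.IsPos a → x a = y a) : posP E x = posP E y := by
  unfold posP
  congr 1
  apply List.map_congr_left
  intro a ha
  rw [h a ((mem_posList b).mp ha)]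

/-- the negative part and the Borel subgroup meet trivially -/
lemma eq_one_of_mem {g : Pt R A B} (h₁ : g ∈ Um E B) (h₂ : g ∈ Bor E B) : g = 1 := by
  obtain ⟨x, hx⟩ := h₁
  obtain ⟨_, ⟨y, rfl⟩, t, hy⟩ := h₂
  have h : negP E x * posP E 0 * E.i B 1 = negP E 0 * posP E y * E.i B t := by
    rw [posP_zero, map_one, mul_one, mul_one, negP_zero, one_mul, ← hx, hy]
  rw [hx, ← negP_zero E]
  exact negP_congr E (join_inj E h).1

lemma not_isPos_neg {a : idx} (ha : a ∈ b.support) : ¬ b.IsPos (P.reflectionPerm a a) := fun h =>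
  (isPos_neg_iff.mp h) (RootPairing.Base.isPos_of_mem_support ha)

/-- the negative part with trivial coordinate at `-a` -/
noncomputable def Wm {a : idx} (ha : a ∈ b.support) (B : Type u) [CommRing B] [Algebra R B] :
    Subgroup (Pt R A B) where
  carrier := {g | ∃ c : idx → B, c (P.reflectionPerm a a) = 0 ∧ g = negP E c}
  one_mem' := ⟨0, rfl, (negP_zero E).symm⟩
  mul_mem' := by
    rintro _ _ ⟨c, hc, rfl⟩ ⟨d, hd, rfl⟩
    obtain ⟨z, hz, hz'⟩ := exists_negP_mul E c d
    exact ⟨z, by rw [hz' a ha, hc, hd, add_zero], hz⟩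
  inv_mem' := by
    rintro _ ⟨c, hc, rfl⟩
    obtain ⟨d, hd⟩ := inv_mem (negP_mem_Um E c)
    obtain ⟨z, hz, hz'⟩ := exists_negP_mul E c d
    refine ⟨d, ?_, hd⟩
    rw [← hd, mul_inv_cancel, ← negP_zero E (B := B)] at hz
    have h1 := negP_inj E hz (not_isPos_neg ha)
    rw [hz' a ha, hc, zero_add] at h1
    exact h1.symm

variable {a : idx} (ha : a ∈ b.support)

lemma Wm_le_Um : Wm E ha B ≤ Um E B := by
  rintro _ ⟨c, -, rfl⟩
  exact negP_mem_Um E c

lemma mem_Wm_iff {c : idx → B} : negP E c ∈ Wm E ha B ↔ c (P.reflectionPerm a a) = 0 := by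
  refine ⟨?_, fun h => ⟨c, h, rfl⟩⟩
  rintro ⟨d, hd, h⟩
  rw [negP_inj E h (not_isPos_neg ha), hd]

lemma uu_mem_Wm {c : idx} (hc : ¬ b.IsPos c) (hca : c ≠ P.reflectionPerm a a) (x : B) :
    E.uu c B x ∈ Wm E ha B := by
  classical
  refine ⟨Pi.single c x, ?_, (negP_single E hc x).symm⟩
  rw [Pi.single_eq_of_ne (Ne.symm hca)]

/-- conjugation by `U⁻` -/
lemma conj_um_mem_Wm {w u : Pt R A B} (hw : w ∈ Wm E ha B) (hu : u ∈ Um E B) :
    u * w * u⁻¹ ∈ Wm E ha B := by
  obtain ⟨c, hc, rfl⟩ := hw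
  obtain ⟨d, rfl⟩ := hu
  obtain ⟨e, he⟩ := inv_mem (negP_mem_Um E d)
  obtain ⟨z₀, hz₀, hz₀'⟩ := exists_negP_mul E d e
  rw [← he, mul_inv_cancel, ← negP_zero E (B := B)] at hz₀
  have h1 := negP_inj E hz₀ (not_isPos_neg ha)
  rw [hz₀' a ha] at h1
  obtain ⟨z₁, hz₁, hz₁'⟩ := exists_negP_mul E d c
  obtain ⟨z₂, hz₂, hz₂'⟩ := exists_negP_mul E z₁ e
  refine ⟨z₂, ?_, ?_⟩
  · rw [hz₂' a ha, hz₁' a ha, hc, add_zero, ← h1]
    rfl
  · rw [← hz₂, ← hz₁, ← he]

/-- conjugation by the torus -/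
lemma conj_i_mem_Wm {w : Pt R A B} (hw : w ∈ Wm E ha B) (t : TPt M B) :
    E.i B t * w * (E.i B t)⁻¹ ∈ Wm E ha B := by
  obtain ⟨c, hc, rfl⟩ := hw
  have h := E.toDatum.i_mul_prod (negList b) c t
  refine ⟨fun a => TPt.ch (P.root a) t * c a, by simp only [hc, mul_zero], ?_⟩
  rw [mul_inv_eq_iff_eq_mul]
  exact h

/-- conjugation by `n_a` -/
lemma conj_nn_mem_Wm {w : Pt R A B} (hw : w ∈ Wm E ha B) :
    E.nn a B * w * (E.nn a B)⁻¹ ∈ Wm E ha B := by
  obtain ⟨z, hz, rfl⟩ := hw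
  have h : ∀ L : List idx, (∀ c ∈ L, ¬ b.IsPos c) →
      E.nn a B * (L.map (fun c => E.uu c B (z c))).prod * (E.nn a B)⁻¹ ∈ Wm E ha B := by
    intro L hL
    induction L with
    | nil => simp [one_mem]
    | cons c L ih =>
      rw [List.map_cons, List.prod_cons]
      have h1 : E.nn a B * (E.uu c B (z c) * (L.map (fun c => E.uu c B (z c))).prod) *
          (E.nn a B)⁻¹ = (E.nn a B * E.uu c B (z c) * (E.nn a B)⁻¹) *
          (E.nn a B * (L.map (fun c => E.uu c B (z c))).prod * (E.nn a B)⁻¹) := by group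
      rw [h1]
      refine mul_mem ?_ (ih fun d hd => hL d (List.mem_cons_of_mem _ hd))
      by_cases hca : c = P.reflectionPerm a a
      · rw [hca, hz, E.uu_zero]
        simp [one_mem]
      · obtain ⟨r, hr⟩ := E.nn_conj ha c
        rw [hr]
        have hc := hL c List.mem_cons_self
        refine uu_mem_Wm E ha ?_ ?_ _
        · -- `s_a c` is negative
          intro h2
          have h3 : b.IsPos (P.reflectionPerm c c) := isPos_neg_iff.mpr hc
          have h4 : P.reflectionPerm c c ≠ a := by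
            intro h
            apply hca
            rw [← h, neg_neg_perm]
          have h5 := isPos_refl ha h3 h4
          rw [refl_neg] at h5
          exact (isPos_neg_iff.mp h5) h2
        · intro h2
          have h3 := refl_refl (P := P) a c
          rw [h2, refl_refl] at h3
          rw [← h3] at hc
          exact hc (RootPairing.Base.isPos_of_mem_support ha)
  exact h (negList b) (fun c hc => (mem_negList b).mp hc)

lemma conj_nn_inv_mem_Wm {w : Pt R A B} (hw : w ∈ Wm E ha B) :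
    (E.nn a B)⁻¹ * w * E.nn a B ∈ Wm E ha B := by
  have h1 := conj_i_mem_Wm E ha (conj_nn_mem_Wm E ha hw) (TPt.cow (P.coroot a) (-1))
  have h2 := nn_inv E (B := B) ha
  have h3 : (E.nn a B)⁻¹ * w * E.nn a B = (E.nn a B)⁻¹ * w * ((E.nn a B)⁻¹)⁻¹ := by rw [inv_inv]
  rw [h3, h2]
  convert h1 using 1
  group

include ha

/-- `u_a(v) = u_{-a}(- r / v) a^∨(v) n_a u_{-a}(1 / v)` for a unit `v` -/
lemma exists_uu_eq : ∃ r : Rˣ, ∀ {B : Type u} [CommRing B] [Algebra R B] (v : Bˣ),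
    E.uu a B (v : B) = E.uu (P.reflectionPerm a a) B (algebraMap R B r * ((v⁻¹ : Bˣ) : B)) *
      E.i B (TPt.cow (P.coroot a) v) * E.nn a B *
        E.uu (P.reflectionPerm a a) B ((v⁻¹ : Bˣ) : B) := by
  obtain ⟨r, hr⟩ := E.nn_conj ha a
  refine ⟨-r, fun {B} _ _ v => ?_⟩
  have h := nv_eq E ha v
  have h1 := hr (B := B) (-(v : B))
  have h2 := E.rel (P.reflectionPerm a a) (TPt.cow (P.coroot a) v)
    (algebraMap R B r * (-(v : B)))
  have h3 : TPt.ch (P.root (P.reflectionPerm a a)) (TPt.cow (P.coroot a) v) *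
      (algebraMap R B r * (-(v : B))) = algebraMap R B ((-r : Rˣ) : R) * ((v⁻¹ : Bˣ) : B) := by
    rw [TPt.ch_cow, root_neg, map_neg, coroot_root_self E, zpow_neg, Units.val_neg, map_neg]
    have : (((v ^ (2 : ℤ))⁻¹ : Bˣ) : B) * (v : B) = ((v⁻¹ : Bˣ) : B) := by
      rw [← Units.val_mul]
      congr 1
      rw [zpow_two]; group
    calc (((v ^ (2 : ℤ))⁻¹ : Bˣ) : B) * (algebraMap R B r * (-(v : B)))
        = -(algebraMap R B r * ((((v ^ (2 : ℤ))⁻¹ : Bˣ) : B) * (v : B))) := by ring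
      _ = _ := by rw [this]; ring
  rw [h3] at h2
  have h4 : E.uu a B (v : B) * E.uu (P.reflectionPerm a a) B (-((v⁻¹ : Bˣ) : B)) =
      E.i B (TPt.cow (P.coroot a) v) * E.nn a B * E.uu a B (-(v : B)) := by
    rw [← h, E.uu_neg a (v : B)]; group
  calc E.uu a B (v : B) = (E.uu a B (v : B) * E.uu (P.reflectionPerm a a) B (-((v⁻¹ : Bˣ) : B))) *
        E.uu (P.reflectionPerm a a) B ((v⁻¹ : Bˣ) : B) := by rw [E.uu_neg (P.reflectionPerm a a)]; group
    _ = (E.i B (TPt.cow (P.coroot a) v) * (E.nn a B * E.uu a B (-(v : B)) * (E.nn a B)⁻¹) *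
        (E.i B (TPt.cow (P.coroot a) v))⁻¹) * E.i B (TPt.cow (P.coroot a) v) * E.nn a B *
        E.uu (P.reflectionPerm a a) B ((v⁻¹ : Bˣ) : B) := by rw [h4]; group
    _ = _ := by rw [h1, h2]

/-- conjugation by `u_a(v)`, `v` a unit -/
lemma conj_uu_mem_Wm_unit {w : Pt R A B} (hw : w ∈ Wm E ha B) (v : Bˣ) :
    E.uu a B v * w * (E.uu a B v)⁻¹ ∈ Wm E ha B := by
  obtain ⟨r, hr⟩ := exists_uu_eq E ha
  rw [hr v]
  have h1 : ∀ x : B, E.uu (P.reflectionPerm a a) B x ∈ Um E B := fun x =>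
    uu_mem_Um E (not_isPos_neg ha) x
  have h2 := conj_um_mem_Wm E ha hw (h1 ((v⁻¹ : Bˣ) : B))
  have h3 := conj_nn_mem_Wm E ha h2
  have h4 := conj_i_mem_Wm E ha h3 (TPt.cow (P.coroot a) v)
  have h5 := conj_um_mem_Wm E ha h4 (h1 (algebraMap R B r * ((v⁻¹ : Bˣ) : B)))
  convert h5 using 1
  group

end ring

section field

variable {F : Type u} [Field F] [Algebra R F] {a : idx} (ha : a ∈ b.support)
include ha

/-- conjugation by `u_a(s)` -/
lemma conj_uu_mem_Wm {w : Pt R A F} (hw : w ∈ Wm E ha F) (s : F) :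
    E.uu a F s * w * (E.uu a F s)⁻¹ ∈ Wm E ha F := by
  by_cases hs : s = 0
  · simpa [hs] using hw
  · exact conj_uu_mem_Wm_unit E ha hw (Units.mk0 s hs)

lemma not_inC_nn (B : Type u) [CommRing B] [Algebra R B] [Nontrivial B] : ¬ InC E (E.nn a B) := by
  intro h
  rw [inC_iff] at h
  obtain ⟨u, hu, v, hv, h⟩ := h
  obtain ⟨r, hr⟩ := E.nn_conj ha a
  have h1 := hr (B := B) 1
  have h2 : u⁻¹ * E.uu (P.reflectionPerm a a) B (algebraMap R B r * 1) * u =
      v * E.uu a B 1 * v⁻¹ := by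
    rw [← h1, h]; group
  have h3 : u⁻¹ * E.uu (P.reflectionPerm a a) B (algebraMap R B r * 1) * u = 1 := by
    refine eq_one_of_mem E (mul_mem (mul_mem (inv_mem hu) (uu_mem_Um E (not_isPos_neg ha) _)) hu) ?_
    rw [h2]
    exact mul_mem (mul_mem hv (uu_mem_Bor E (RootPairing.Base.isPos_of_mem_support ha) _))
      (inv_mem hv)
  rw [h2, mul_inv_eq_one, mul_eq_left] at h3
  have h4 := E.uu_inj a (h3.trans (E.uu_zero a).symm)
  exact one_ne_zero h4

/-- `u_a(s) u_{-a}(z)` is in the big cell iff `1 + s z ≠ 0`. -/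
lemma inC_uu_uu (s z : F) : InC E (E.uu a F s * E.uu (P.reflectionPerm a a) F z) ↔
    1 + s * z ≠ 0 := by
  have hpos := RootPairing.Base.isPos_of_mem_support ha
  constructor
  · intro h h0
    have hs : s ≠ 0 := by
      rintro rfl
      simp at h0
    have hz : z = -(((Units.mk0 s hs)⁻¹ : Fˣ) : F) := by
      rw [Units.val_inv_eq_inv_val, Units.val_mk0]
      field_simp
      linear_combination h0
    have h1 := nv_eq E ha (Units.mk0 s hs)
    rw [Units.val_mk0, ← hz] at h1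
    have h2 : E.uu a F s * E.uu (P.reflectionPerm a a) F z =
        E.i F (TPt.cow (P.coroot a) (Units.mk0 s hs)) * (E.nn a F * (E.uu a F s)⁻¹) := by
      rw [← mul_assoc, ← h1]; group
    rw [h2, inC_i_mul, inC_mul_bor E (inv_mem (uu_mem_Bor E hpos s))] at h
    exact not_inC_nn E ha F h
  · intro h
    have h1 := E.rank1 a ha s z (Units.mk0 _ h) rfl
    rw [h1, inC_mul_bor E (uu_mem_Bor E hpos _)]
    refine (inC_um_mul E (uu_mem_Um E (not_isPos_neg ha) _)).mpr ?_
    have := (inC_i_mul E (g := (1 : Pt R A F)) (TPt.cow (P.coroot a) (Units.mk0 _ h))).mpr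
      (inC_one E)
    rwa [mul_one] at this

/-- splitting off the coordinate at `-a` -/
lemma exists_split_Wm {B : Type u} [CommRing B] [Algebra R B] (c : idx → B) :
    ∃ w ∈ Wm E ha B, negP E c = w * E.uu (P.reflectionPerm a a) B (c (P.reflectionPerm a a)) := by
  classical
  obtain ⟨z, hz, hz'⟩ := exists_negP_mul E c
    (Pi.single (P.reflectionPerm a a) (-c (P.reflectionPerm a a)))
  rw [negP_single E (not_isPos_neg ha)] at hz
  refine ⟨negP E z, ⟨z, ?_, rfl⟩, ?_⟩
  · rw [hz' a ha, Pi.single_eq_same, add_neg_cancel]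
  · rw [← hz, mul_assoc, ← E.uu_add, neg_add_cancel, E.uu_zero, mul_one]

/-- `u_a(s) y` for `y` in the big cell. -/
lemma inC_uu_mul (s : F) (c : idx → F) {β : Pt R A F} (hβ : β ∈ Bor E F) :
    InC E (E.uu a F s * (negP E c * β)) ↔ 1 + s * c (P.reflectionPerm a a) ≠ 0 := by
  obtain ⟨w, hw, h⟩ := exists_split_Wm E ha c
  rw [h]
  have h1 : E.uu a F s * (w * E.uu (P.reflectionPerm a a) F (c (P.reflectionPerm a a)) * β) =
      (E.uu a F s * w * (E.uu a F s)⁻¹) * ((E.uu a F s *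
        E.uu (P.reflectionPerm a a) F (c (P.reflectionPerm a a))) * β) := by group
  rw [h1, inC_um_mul E (Wm_le_Um E ha (conj_uu_mem_Wm E ha hw s)), inC_mul_bor E hβ,
    inC_uu_uu E ha]

/-- `n_a ^ 2` is in the torus -/
lemma nn_mul_nn_mem (B : Type u) [CommRing B] [Algebra R B] : E.nn a B * E.nn a B ∈ Bor E B := by
  have h := nn_inv E (B := B) ha
  have h1 : E.nn a B * E.nn a B = (E.i B (TPt.cow (P.coroot a) (-1)))⁻¹ := by
    have h3 : E.i B (TPt.cow (P.coroot a) (-1)) * (E.nn a B * E.nn a B) = 1 := by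
      rw [← mul_assoc, ← h, inv_mul_cancel]
    exact eq_inv_of_mul_eq_one_right h3
  rw [h1]
  exact inv_mem (i_mem_Bor E _)

/-- `u_a(s) n_a` is in the big cell iff `s ≠ 0`. -/
lemma inC_uu_nn (s : F) : InC E (E.uu a F s * E.nn a F) ↔ s ≠ 0 := by
  constructor
  · rintro h rfl
    rw [E.uu_zero, one_mul] at h
    exact not_inC_nn E ha F h
  · intro hs
    obtain ⟨r, hr⟩ := exists_uu_eq E ha
    obtain ⟨r', hr'⟩ := E.nn_conj ha (P.reflectionPerm a a)
    have h1 := hr (Units.mk0 s hs)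
    rw [Units.val_mk0] at h1
    rw [h1]
    have h2 := hr' (B := F) (((Units.mk0 s hs)⁻¹ : Fˣ) : F)
    rw [refl_refl] at h2
    have h3 : E.uu (P.reflectionPerm a a) F (algebraMap R F r * ((Units.mk0 s hs)⁻¹ : Fˣ)) *
        E.i F (TPt.cow (P.coroot a) (Units.mk0 s hs)) * E.nn a F *
        E.uu (P.reflectionPerm a a) F ((Units.mk0 s hs)⁻¹ : Fˣ) * E.nn a F =
        E.uu (P.reflectionPerm a a) F (algebraMap R F r * ((Units.mk0 s hs)⁻¹ : Fˣ)) *
        (E.i F (TPt.cow (P.coroot a) (Units.mk0 s hs)) *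
          ((E.nn a F * E.uu (P.reflectionPerm a a) F ((Units.mk0 s hs)⁻¹ : Fˣ) * (E.nn a F)⁻¹) *
          (E.nn a F * E.nn a F))) := by group
    rw [h3, h2, inC_um_mul E (uu_mem_Um E (not_isPos_neg ha) _), inC_i_mul,
      inC_mul_bor E (nn_mul_nn_mem E ha F)]
    have h4 := (inC_mul_bor E (g := (1 : Pt R A F)) (uu_mem_Bor E
      (RootPairing.Base.isPos_of_mem_support ha) (algebraMap R F r' *
        (((Units.mk0 s hs)⁻¹ : Fˣ) : F)))).mpr (inC_one E)
    rwa [one_mul] at h4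

/-- `u_a(x) n_a y` for `y` in the big cell. -/
lemma inC_uu_nn_mul {r : Rˣ} (hr : ∀ {B : Type u} [CommRing B] [Algebra R B] (x : B),
      E.nn a B * E.uu (P.reflectionPerm a a) B x * (E.nn a B)⁻¹ = E.uu a B (algebraMap R B r * x))
    (x : F) (c : idx → F) {β : Pt R A F} (hβ : β ∈ Bor E F) :
    InC E (E.uu a F x * E.nn a F * (negP E c * β)) ↔
      x + algebraMap R F r * c (P.reflectionPerm a a) ≠ 0 := by
  obtain ⟨w, hw, h⟩ := exists_split_Wm E ha c
  rw [h]
  have h1 : E.uu a F x * E.nn a F *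
      (w * E.uu (P.reflectionPerm a a) F (c (P.reflectionPerm a a)) * β) =
      (E.uu a F x * (E.nn a F * w * (E.nn a F)⁻¹) * (E.uu a F x)⁻¹) * ((E.uu a F x *
        (E.nn a F * E.uu (P.reflectionPerm a a) F (c (P.reflectionPerm a a)) * (E.nn a F)⁻¹)) *
        E.nn a F * β) := by group
  rw [h1, inC_um_mul E (Wm_le_Um E ha (conj_uu_mem_Wm E ha (conj_nn_mem_Wm E ha hw) x)),
    inC_mul_bor E hβ, hr, ← E.uu_add, inC_uu_nn E ha]

/-- if `y` and `u_a(x) n_a y` are not in the big cell then no `u_a(t) y` is. -/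
lemma not_inC_uu_mul {y : Pt R A F} (hy : ¬ InC E y) (x : F)
    (hxy : ¬ InC E (E.uu a F x * E.nn a F * y)) (t : F) : ¬ InC E (E.uu a F t * y) := by
  intro h
  have hpos := RootPairing.Base.isPos_of_mem_support ha
  rw [inC_iff] at h
  obtain ⟨_, ⟨c, rfl⟩, β, hβ, h⟩ := h
  have hy' : y = E.uu a F (-t) * (negP E c * β) := by
    rw [← h, E.uu_neg]; group
  rw [hy', inC_uu_mul E ha _ _ hβ, not_not] at hy
  have ht : t ≠ 0 := by
    rintro rfl
    simp at hy
  have hc : c (P.reflectionPerm a a) = (((Units.mk0 t ht)⁻¹ : Fˣ) : F) := by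
    rw [Units.val_inv_eq_inv_val, Units.val_mk0]
    field_simp
    linear_combination -hy
  apply hxy
  obtain ⟨w, hw, hw'⟩ := exists_split_Wm E ha c
  rw [hy', hw']
  have h1 := nv_eq E ha (-Units.mk0 t ht)
  have h2 : ((-(Units.mk0 t ht) : Fˣ) : F) = -t := rfl
  have h3 : (-(((-(Units.mk0 t ht))⁻¹ : Fˣ) : F)) = (((Units.mk0 t ht)⁻¹ : Fˣ) : F) := by
    rw [inv_neg, Units.val_neg, neg_neg]
  rw [h2, h3, ← hc] at h1
  set θ := E.i F (TPt.cow (P.coroot a) (-Units.mk0 t ht)) with hθ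
  have h4 : E.uu a F (-t) * E.uu (P.reflectionPerm a a) F (c (P.reflectionPerm a a)) =
      θ * E.nn a F * E.uu a F t := by
    rw [← h1, E.uu_neg a t]; group
  have h5 : E.uu a F x * E.nn a F * (E.uu a F (-t) *
      (w * E.uu (P.reflectionPerm a a) F (c (P.reflectionPerm a a)) * β)) =
      (E.uu a F x * (E.nn a F * (E.uu a F (-t) * w * (E.uu a F (-t))⁻¹) * (E.nn a F)⁻¹) *
        (E.uu a F x)⁻¹) * (E.uu a F x * ((E.nn a F * θ * (E.nn a F)⁻¹) *
        ((E.nn a F * E.nn a F) * (E.uu a F t * β)))) := by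
    have h6 : E.uu a F x * E.nn a F * (E.uu a F (-t) *
      (w * E.uu (P.reflectionPerm a a) F (c (P.reflectionPerm a a)) * β)) =
      E.uu a F x * E.nn a F * (E.uu a F (-t) * w * (E.uu a F (-t))⁻¹) * ((E.uu a F (-t) *
        E.uu (P.reflectionPerm a a) F (c (P.reflectionPerm a a))) * β) := by group
    rw [h6, h4]; group
  rw [h5, inC_um_mul E (Wm_le_Um E ha (conj_uu_mem_Wm E ha
    (conj_nn_mem_Wm E ha (conj_uu_mem_Wm E ha hw _)) x)), hθ, nn_conj_i E ha]
  exact inC_of_mem_Bor E (mul_mem (uu_mem_Bor E hpos x)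
    (mul_mem (i_mem_Bor E _) (mul_mem (nn_mul_nn_mem E ha F)
      (mul_mem (uu_mem_Bor E hpos t) hβ))))

end field

end Groth.Agent.RedSub.H662.Panel
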