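import Groth.Agent.RedSub.H662.Panel
import Mathlib.Algebra.MvPolynomial.Eval
import Mathlib.Algebra.Polynomial.AlgebraMap

/-!
# Coordinates on the positive unipotent part of a pinned group

`pu E x` : the point of `U⁺` with coordinates `x : PI b → B`, `PI b` the type of positive roots.
-/

set_option autoImplicit false
set_option linter.unusedSectionVars false
universe u

namespace Groth.Agent.RedSub.H662.PosPt

open Groth.Agent.Sga3B Groth.Agent.Sga3B.Cell Groth.Agent.Sga3B.Word
open Groth.Agent.RedSub.H638.WeylBase Groth.Agent.RedSub.H638.WeylCover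
open Panel

variable {idx M : Type} [Fintype idx] [AddCommGroup M] [Module.Free ℤ M]
    [Module.Finite ℤ M] {P : RootPairing idx ℤ M (Module.Dual ℤ M)} {b : P.Base}

/-- the positive roots -/
abbrev PI {P : RootPairing idx ℤ M (Module.Dual ℤ M)} (b : P.Base) : Type := {c : idx // b.IsPos c}

/-- a simple root as a positive root -/
def si {a : idx} (ha : a ∈ b.support) : PI b := ⟨a, RootPairing.Base.isPos_of_mem_support ha⟩

section defs

variable {B : Type u} [CommRing B]

open Classical in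
/-- extension by zero -/
noncomputable def ext0 (x : PI b → B) : idx → B := fun c => if h : b.IsPos c then x ⟨c, h⟩ else 0

lemma ext0_pos (x : PI b → B) {c : idx} (h : b.IsPos c) : ext0 x c = x ⟨c, h⟩ := by
  simp [ext0, h]

lemma ext0_si (x : PI b → B) {a : idx} (ha : a ∈ b.support) : ext0 x a = x (si ha) :=
  ext0_pos x _

end defs

variable {R A : Type u} [CommRing R] [CommRing A] [Algebra R A] [PtGrp R A] (E : PinCell P b R A)
variable {B : Type u} [CommRing B] [Algebra R B] {C : Type u} [CommRing C] [Algebra R C]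

/-- the point of `U⁺` with given coordinates -/
noncomputable def pu (x : PI b → B) : Pt R A B := posP E (ext0 x)

lemma pu_mem (x : PI b → B) : pu E x ∈ Up E B := posP_mem_Up E _

lemma exists_pu {u : Pt R A B} (hu : u ∈ Up E B) : ∃ x : PI b → B, u = pu E x := by
  obtain ⟨x, rfl⟩ := hu
  refine ⟨fun c => x c, ?_⟩
  apply posP_congr
  intro c hc
  rw [ext0_pos _ hc]

lemma pu_inj {x y : PI b → B} (h : pu E x = pu E y) : x = y := by
  funext c
  have := posP_inj E h c.2
  rwa [ext0_pos _ c.2, ext0_pos _ c.2] at this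

lemma pu_nat (φ : B →ₐ[R] C) (x : PI b → B) : Pt.map φ (pu E x) = pu E (fun c => φ (x c)) := by
  rw [pu, pu, posP, posP, Pt.map_list_prod, List.map_map]
  congr 1
  apply List.map_congr_left
  intro c hc
  rw [mem_posList] at hc
  simp [E.uu_nat, ext0_pos _ hc]

lemma pu_zero : pu E (0 : PI b → B) = 1 := by
  rw [← posP_zero E (B := B)]
  apply posP_congr
  intro c hc
  rw [ext0_pos _ hc]
  rfl

/-- the positive part with trivial coordinate at the simple root `a` -/
noncomputable def Wp {a : idx} (ha : a ∈ b.support) (B : Type u) [CommRing B] [Algebra R B] :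
    Subgroup (Pt R A B) where
  carrier := {g | ∃ c : idx → B, c a = 0 ∧ g = posP E c}
  one_mem' := ⟨0, rfl, (posP_zero E).symm⟩
  mul_mem' := by
    rintro _ _ ⟨c, hc, rfl⟩ ⟨d, hd, rfl⟩
    obtain ⟨z, hz, hz'⟩ := exists_posP_mul E c d
    exact ⟨z, by rw [hz' a ha, hc, hd, add_zero], hz⟩
  inv_mem' := by
    rintro _ ⟨c, hc, rfl⟩
    obtain ⟨d, hd⟩ := inv_mem (posP_mem_Up E c)
    obtain ⟨z, hz, hz'⟩ := exists_posP_mul E c d
    refine ⟨d, ?_, hd⟩
    rw [← hd, mul_inv_cancel, ← posP_zero E (B := B)] at hz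
    have h1 := posP_inj E hz (RootPairing.Base.isPos_of_mem_support ha)
    rw [hz' a ha, hc, zero_add] at h1
    exact h1.symm

variable {a : idx} (ha : a ∈ b.support)

lemma Wp_le_Up : Wp E ha B ≤ Up E B := by
  rintro _ ⟨c, -, rfl⟩
  exact posP_mem_Up E c

lemma mem_Wp_iff {x : PI b → B} : pu E x ∈ Wp E ha B ↔ x (si ha) = 0 := by
  constructor
  · rintro ⟨d, hd, h⟩
    have := posP_inj E h (RootPairing.Base.isPos_of_mem_support ha)
    rwa [hd, ext0_si x ha] at this
  · intro h
    exact ⟨_, by rw [ext0_si x ha, h], rfl⟩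

lemma uu_mem_Wp {c : idx} (hc : b.IsPos c) (hca : c ≠ a) (x : B) : E.uu c B x ∈ Wp E ha B := by
  classical
  refine ⟨Pi.single c x, ?_, (posP_single E hc x).symm⟩
  rw [Pi.single_eq_of_ne (Ne.symm hca)]

lemma conj_i_mem_Wp {w : Pt R A B} (hw : w ∈ Wp E ha B) (t : TPt M B) :
    E.i B t * w * (E.i B t)⁻¹ ∈ Wp E ha B := by
  obtain ⟨c, hc, rfl⟩ := hw
  have h := E.toDatum.i_mul_prod (posList b) c t
  refine ⟨fun a => TPt.ch (P.root a) t * c a, by simp only [hc, mul_zero], ?_⟩
  rw [mul_inv_eq_iff_eq_mul]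
  exact h

lemma conj_nn_mem_Wp {w : Pt R A B} (hw : w ∈ Wp E ha B) :
    E.nn a B * w * (E.nn a B)⁻¹ ∈ Wp E ha B := by
  obtain ⟨z, hz, rfl⟩ := hw
  have h : ∀ L : List idx, (∀ c ∈ L, b.IsPos c) →
      E.nn a B * (L.map (fun c => E.uu c B (z c))).prod * (E.nn a B)⁻¹ ∈ Wp E ha B := by
    intro L hL
    induction L with
    | nil => simp [one_mem]
    | cons c L ih =>
      rw [List.map_cons, List.prod_cons]
      have h1 : E.nn a B * (E.uu c B (z c) * (L.map (fun c => E.uu c B (z c))).prod) *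
          (E.nn a B)⁻¹ = (E.nn a B * E.uu c B (z c) * (E.nn a B)⁻¹) *
          (E.nn a B * (L.map (fun c => E.uu c B (z c))).prod * (E.nn a B)⁻¹) := by group
      rw [h1]
      refine mul_mem ?_ (ih fun d hd => hL d (List.mem_cons_of_mem _ hd))
      by_cases hca : c = a
      · rw [hca, hz, E.uu_zero]
        simp [one_mem]
      · obtain ⟨r, hr⟩ := E.nn_conj ha c
        rw [hr]
        have hc := hL c List.mem_cons_self
        refine uu_mem_Wp E ha (isPos_refl ha hc hca) ?_ _
        intro h2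
        have h3 := refl_refl (P := P) a c
        rw [h2] at h3
        rw [← h3] at hc
        exact (not_isPos_neg ha) hc
  exact h (posList b) (fun c hc => (mem_posList b).mp hc)

lemma conj_nn_inv_mem_Wp {w : Pt R A B} (hw : w ∈ Wp E ha B) :
    (E.nn a B)⁻¹ * w * E.nn a B ∈ Wp E ha B := by
  have h1 := conj_i_mem_Wp E ha (conj_nn_mem_Wp E ha hw) (TPt.cow (P.coroot a) (-1))
  have h2 := nn_inv E (B := B) ha
  have h3 : (E.nn a B)⁻¹ * w * E.nn a B = (E.nn a B)⁻¹ * w * ((E.nn a B)⁻¹)⁻¹ := by rw [inv_inv]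
  rw [h3, h2]
  convert h1 using 1
  group

/-- splitting off the coordinate at `a` -/
lemma pu_mul_uu_mem_Wp (x : PI b → B) : pu E x * E.uu a B (-x (si ha)) ∈ Wp E ha B := by
  classical
  obtain ⟨z, hz, hz'⟩ := exists_posP_mul E (ext0 x) (Pi.single a (-x (si ha)))
  rw [posP_single E (RootPairing.Base.isPos_of_mem_support ha)] at hz
  refine ⟨z, ?_, hz⟩
  rw [hz' a ha, Pi.single_eq_same, ext0_si x ha, add_neg_cancel]

section generic

variable (K : Type u) [Field K] {A : Type u} [CommRing A] [Algebra K A] [PtGrp K A]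
  (E : PinCell P b K A)

/-- the coordinate ring of the positive part -/
abbrev KU (b : P.Base) (K : Type u) [Field K] : Type u := MvPolynomial (PI b) K

variable {K}

lemma map_pu_X {B : Type u} [CommRing B] [Algebra K B] (x : PI b → B) :
    Pt.map (MvPolynomial.aeval x) (pu E (MvPolynomial.X : PI b → KU b K)) = pu E x := by
  rw [pu_nat]
  simp

/-- the substitution `u = n_a v n_a⁻¹ u_a(x_a) ↦ v` -/
lemma exists_sub : ∃ y : PI b → KU b K, ∀ {B : Type u} [CommRing B] [Algebra K B] (x : PI b → B),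
    (E.nn a B)⁻¹ * (pu E x * E.uu a B (-x (si ha))) * E.nn a B =
      pu E (fun c => MvPolynomial.aeval x (y c)) := by
  obtain ⟨y, hy⟩ := exists_pu E (Wp_le_Up E ha (conj_nn_inv_mem_Wp E ha
    (pu_mul_uu_mem_Wp E ha (MvPolynomial.X : PI b → KU b K))))
  refine ⟨y, fun {B} _ _ x => ?_⟩
  have h := congrArg (Pt.map (MvPolynomial.aeval (R := K) x)) hy
  rw [Pt.map_mul, Pt.map_mul, Pt.map_inv, E.nn_nat, Pt.map_mul, map_pu_X, E.uu_nat, map_neg,
    MvPolynomial.aeval_X, pu_nat] at h
  exact h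

open Polynomial in
include ha in
/-- the translation `u ↦ u u_a(t)` -/
lemma exists_trans : ∃ ξ : PI b → (KU b K)[X], ∀ {B : Type u} [CommRing B] [Algebra K B]
    (x : PI b → B) (t : B), pu E x * E.uu a B t =
      pu E (fun c => Polynomial.eval₂ (MvPolynomial.aeval (R := K) x : KU b K →+* B) t (ξ c)) := by
  have hpos := RootPairing.Base.isPos_of_mem_support ha
  obtain ⟨ξ, hξ⟩ := exists_pu E (mul_mem
    (pu_mem E (fun c => Polynomial.C (MvPolynomial.X c) : PI b → (KU b K)[X]))
    (uu_mem_Up E hpos (X : (KU b K)[X])))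
  refine ⟨ξ, fun {B} _ _ x t => ?_⟩
  let φ : (KU b K)[X] →ₐ[K] B :=
    Polynomial.eval₂AlgHom (MvPolynomial.aeval (R := K) x) t (fun a => mul_comm _ _)
  have hφ : ∀ p, φ p = Polynomial.eval₂ (MvPolynomial.aeval (R := K) x : KU b K →+* B) t p :=
    fun p => rfl
  have h := congrArg (Pt.map φ) hξ
  rw [Pt.map_mul, pu_nat, pu_nat, E.uu_nat, hφ X, eval₂_X] at h
  simp only [hφ, eval₂_C] at h
  rw [← h]
  simp

end generic

end Groth.Agent.RedSub.H662.PosPt
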