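import Groth.Agent.RedSub.H662.Van
import Mathlib.Algebra.MvPolynomial.Funext

/-!
# The inductive step

For a reduced word `l` in the simple roots there is a function `h` on `U⁺` vanishing at all `u` with
`u⁻¹ n_l` not in the big cell, and not vanishing at a point of the form `gl E l x` with `x i ^ 2 = 0`.
-/

set_option autoImplicit false
set_option linter.unusedSectionVars false
set_option linter.dupNamespace false
universe u

namespace Groth.Agent.RedSub.H662.Step

open Groth.Agent.Sga3B Groth.Agent.Sga3B.Cell Groth.Agent.Sga3B.Word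
open Groth.Agent.RedSub.H638.WeylBase Groth.Agent.RedSub.H638.WeylCover
open Panel PosPt Van

variable {idx M : Type} [Fintype idx] [AddCommGroup M] [Module.Free ℤ M]
    [Module.Finite ℤ M] {P : RootPairing idx ℤ M (Module.Dual ℤ M)} {b : P.Base}

/-- the inversion sequence of a word -/
def invl (P : RootPairing idx ℤ M (Module.Dual ℤ M)) : List idx → List idx
  | [] => []
  | a :: l => a :: (invl P l).map (P.reflectionPerm a)

/-- reduced words -/
def Red (b : P.Base) : List idx → Prop
  | [] => True
  | a :: l => a ∈ b.support ∧ b.IsPos ((wp P l).symm a) ∧ Red b l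

lemma Red.support {l : List idx} (h : Red b l) : ∀ a ∈ l, a ∈ b.support := by
  induction l with
  | nil => simp
  | cons a l ih =>
    intro c hc
    rcases List.mem_cons.mp hc with rfl | hc
    · exact h.1
    · exact ih h.2.2 c hc

lemma Red.invl {l : List idx} (h : Red b l) : ∀ c ∈ invl P l, b.IsPos c ∧
    ¬ b.IsPos ((wp P l).symm c) := by
  induction l with
  | nil => simp [Step.invl]
  | cons a l ih =>
    intro c hc
    rw [Step.invl, List.mem_cons, List.mem_map] at hc
    rcases hc with rfl | ⟨d, hd, rfl⟩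
    · refine ⟨RootPairing.Base.isPos_of_mem_support h.1, ?_⟩
      rw [wp_cons_symm, wp_symm_neg, isPos_neg_iff, not_not]
      exact h.2.1
    · obtain ⟨h1, h2⟩ := ih h.2.2 d hd
      rw [wp_cons_symm, refl_refl]
      refine ⟨isPos_refl h.1 h1 ?_, h2⟩
      rintro rfl
      exact h2 h.2.1

lemma Red.notMem {a : idx} {l : List idx} (h : Red b (a :: l)) : a ∉ Step.invl P l :=
  fun ha => (h.2.2.invl a ha).2 h.2.1

variable {K : Type u} [Field K] {A : Type u} [CommRing A] [Algebra K A] [PtGrp K A]
  (E : PinCell P b K A)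

/-- word points -/
noncomputable def gl {B : Type u} [CommRing B] [Algebra K B] : List idx → (ℕ → B) → Pt K A B
  | [], _ => 1
  | a :: l, x => E.nn a B * gl l (fun n => x (n + 1)) * (E.nn a B)⁻¹ * E.uu a B (x 0)

lemma gl_nat {B C : Type u} [CommRing B] [Algebra K B] [CommRing C] [Algebra K C] (φ : B →ₐ[K] C)
    (l : List idx) (x : ℕ → B) : Pt.map φ (gl E l x) = gl E l (fun n => φ (x n)) := by
  induction l generalizing x with
  | nil => exact Pt.map_one φ
  | cons a l ih =>
    rw [gl, gl, Pt.map_mul, Pt.map_mul, Pt.map_mul, Pt.map_inv, E.nn_nat, E.uu_nat, ih]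

lemma gl_mem {B : Type u} [CommRing B] [Algebra K B] {l : List idx} (hl : ∀ a ∈ l, a ∈ b.support)
    (x : ℕ → B) (H : Subgroup (Pt K A B)) (hH : ∀ c ∈ invl P l, ∀ y : B, E.uu c B y ∈ H) :
    gl E l x ∈ H := by
  induction l generalizing x H with
  | nil => exact one_mem H
  | cons a l ih =>
    have ha := hl a List.mem_cons_self
    rw [gl]
    refine mul_mem ?_ (hH a (by rw [invl]; exact List.mem_cons_self) _)
    have h1 := ih (fun c hc => hl c (List.mem_cons_of_mem _ hc)) (fun n => x (n + 1))
      (H.comap (MulAut.conj (E.nn a B)).toMonoidHom) (by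
        intro d hd y
        rw [Subgroup.mem_comap]
        obtain ⟨r, hr⟩ := E.nn_conj ha d
        have h2 := hr y
        change E.nn a B * E.uu d B y * (E.nn a B)⁻¹ ∈ H
        rw [h2]
        exact hH _ (by rw [invl]; exact List.mem_cons_of_mem _ (List.mem_map_of_mem hd)) _)
    exact h1

lemma gl_zero {B : Type u} [CommRing B] [Algebra K B] (l : List idx) :
    gl E l (fun _ => (0 : B)) = 1 := by
  induction l with
  | nil => rfl
  | cons a l ih =>
    rw [gl, ih, E.uu_zero]
    group

/-- The function `h` does not vanish at some word point with square zero coordinates. -/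
def NF (l : List idx) (h : KU b K) : Prop :=
  ∃ (B : Type u) (_ : CommRing B) (_ : Algebra K B) (x : ℕ → B) (ξ : PI b → B),
    (∀ n, x n * x n = 0) ∧ pu E ξ = gl E l x ∧ MvPolynomial.aeval ξ h ≠ 0

variable {a : idx} (ha : a ∈ b.support)

lemma coord_of_mem_Wp {B : Type u} [CommRing B] [Algebra K B] {w : Pt K A B}
    (hw : w ∈ Wp E ha B) {ξ : PI b → B} {s : B} (h : pu E ξ = w * E.uu a B s) : ξ (si ha) = s := by
  classical
  have hpos := RootPairing.Base.isPos_of_mem_support ha
  obtain ⟨c, hc, rfl⟩ := hw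
  obtain ⟨z, hz, hz'⟩ := exists_posP_mul E c (Pi.single a s)
  rw [posP_single E hpos, ← h] at hz
  have h1 := posP_inj E hz hpos
  rw [ext0_si ξ ha, hz' a ha, hc, Pi.single_eq_same, zero_add] at h1
  exact h1

theorem step [Infinite K] {l : List idx} (hred : Red b (a :: l)) {h' : KU b K}
    (hVan : Van E l h') (hNF : NF E l h') :
    ∃ h : KU b K, Van E (a :: l) h ∧ NF E (a :: l) h := by
  have ha := hred.1
  have hgen : ∃ x₀ : PI b → K, InC E ((pu E x₀)⁻¹ * nw E K l) := by
    by_contra hcon
    push Not at hcon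
    obtain ⟨B, _, _, x, ξ, -, -, hne⟩ := hNF
    have h0 : h' = 0 := by
      apply MvPolynomial.funext
      intro x
      have := hVan K x (hcon x)
      rw [MvPolynomial.aeval_eq_eval] at this
      rw [map_zero]
      exact this
    rw [h0, map_zero] at hne
    exact hne rfl
  obtain ⟨r, hr'⟩ := E.nn_conj ha (P.reflectionPerm a a)
  have hr : ∀ {B : Type u} [CommRing B] [Algebra K B] (x : B),
      E.nn a B * E.uu (P.reflectionPerm a a) B x * (E.nn a B)⁻¹ =
        E.uu a B (algebraMap K B r * x) := by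
    intro B _ _ x
    rw [hr' x, refl_refl]
  clear hr'
  obtain ⟨y, hy⟩ := exists_sub ha E
  obtain ⟨N, hN1, hN2⟩ := exists_N E ha hVan hgen
  refine ⟨MvPolynomial.aeval y h' * MvPolynomial.X (si ha) -
    MvPolynomial.C (r : K) * MvPolynomial.aeval y N, ?_, ?_⟩
  · intro F _ _ x hx
    set x' : PI b → F := fun c => MvPolynomial.aeval x (y c) with hx'
    have hcomp : ∀ p : KU b K, MvPolynomial.aeval x (MvPolynomial.aeval y p) =
        MvPolynomial.aeval x' p := fun p =>
      MvPolynomial.comp_aeval_apply (R := K) (f := y) (MvPolynomial.aeval (R := K) x) p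
    have hkey : (pu E x)⁻¹ * nw E F (a :: l) =
        E.uu a F (-x (si ha)) * E.nn a F * ((pu E x')⁻¹ * nw E F l) := by
      rw [nw_cons, ← hy x]
      group
    rw [hkey] at hx
    rw [map_sub, map_mul, map_mul, hcomp, hcomp, MvPolynomial.aeval_X, MvPolynomial.aeval_C]
    by_cases hc : InC E ((pu E x')⁻¹ * nw E F l)
    · obtain ⟨_, ⟨c, rfl⟩, β, hβ, heq⟩ := (inC_iff E).mp hc
      rw [heq, inC_uu_nn_mul E ha hr _ c hβ, not_not] at hx
      rw [hN1 F x' c β hβ heq]
      linear_combination (- MvPolynomial.aeval x' h') * hx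
    · rw [hN2 F x' (fun t => not_inC_uu_mul E ha hc _ hx t), hVan F x' hc]
      ring
  · obtain ⟨B, _, _, x, ξ', hx, hξ', hne⟩ := hNF
    let j : B →ₐ[K] DualNumber B := TrivSqZeroExt.inlAlgHom K B B
    let x₁ : ℕ → DualNumber B := fun n => Nat.casesOn n DualNumber.eps (fun m => j (x m))
    have hx₁0 : x₁ 0 = DualNumber.eps := rfl
    have hx₁s : (fun n => x₁ (n + 1)) = fun n => j (x n) := rfl
    have hmem : gl E (a :: l) x₁ ∈ Up E (DualNumber B) :=
      gl_mem E hred.support x₁ _ fun c hc y => uu_mem_Up E (hred.invl c hc).1 y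
    obtain ⟨ξ, hξ⟩ := exists_pu E hmem
    have hw : gl E l (fun n => j (x n)) ∈ Wp E ha (DualNumber B) :=
      gl_mem E hred.2.2.support _ _ fun c hc y => uu_mem_Wp E ha (hred.2.2.invl c hc).1
        (fun h => hred.notMem (h ▸ hc)) y
    have hw' := conj_nn_mem_Wp E ha hw
    have hξ2 : pu E ξ = E.nn a _ * gl E l (fun n => j (x n)) * (E.nn a _)⁻¹ *
        E.uu a _ DualNumber.eps := by
      rw [← hξ, gl, hx₁s, hx₁0]
    have hξa : ξ (si ha) = DualNumber.eps := coord_of_mem_Wp E ha hw' hξ2
    have hyξ : (fun c => MvPolynomial.aeval ξ (y c)) = fun c => j (ξ' c) := by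
      apply pu_inj E
      rw [← pu_nat E j ξ', hξ', gl_nat, ← hy ξ, hξ2, hξa, E.uu_neg]
      group
    have hcomp : ∀ p : KU b K, MvPolynomial.aeval ξ (MvPolynomial.aeval y p) =
        j (MvPolynomial.aeval ξ' p) := by
      intro p
      rw [MvPolynomial.comp_aeval_apply (R := K) (f := y) (MvPolynomial.aeval (R := K) ξ) p, hyξ,
        ← MvPolynomial.comp_aeval_apply (R := K) (f := ξ') j p]
    refine ⟨DualNumber B, inferInstance, inferInstance, x₁, ξ, ?_, hξ.symm, ?_⟩
    · intro n
      cases n with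
      | zero => exact DualNumber.eps_mul_eps
      | succ n =>
        change j (x n) * j (x n) = 0
        rw [← map_mul, hx, map_zero]
    · intro h0
      rw [map_sub, map_mul, map_mul, hcomp, hcomp, MvPolynomial.aeval_X, MvPolynomial.aeval_C,
        hξa, ← j.commutes, ← map_mul] at h0
      apply hne
      have h1 := congrArg TrivSqZeroExt.snd h0
      change TrivSqZeroExt.snd (TrivSqZeroExt.inl (MvPolynomial.aeval ξ' h') * DualNumber.eps -
        TrivSqZeroExt.inl _) = 0 at h1
      simpa using h1

end Groth.Agent.RedSub.H662.Step
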