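import Groth.Agent.RedSub.H662.PosPt
import Groth.Agent.RedSub.H662.IntNum
import Mathlib.RingTheory.Polynomial.UniqueFactorization
import Mathlib.RingTheory.Polynomial.RationalRoot
import Mathlib.Algebra.DualNumber

/-!
# Functions on `U⁺` vanishing on the complement of a translate of the big cell

`E : PinCell P b K A`, `K` an algebraically closed field, `l` a word in the simple roots.
`Van E l h` : the function `h` on `U⁺` vanishes at all `u` with `u⁻¹ n_l` not in the big cell.
-/

set_option autoImplicit false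
set_option linter.unusedSectionVars false
set_option linter.dupNamespace false
universe u

namespace Groth.Agent.RedSub.H662.Van

open Groth.Agent.Sga3B Groth.Agent.Sga3B.Cell Groth.Agent.Sga3B.Word
open Groth.Agent.RedSub.H638.WeylBase Groth.Agent.RedSub.H638.WeylCover
open Panel PosPt

variable {idx M : Type} [Fintype idx] [AddCommGroup M] [Module.Free ℤ M]
    [Module.Finite ℤ M] {P : RootPairing idx ℤ M (Module.Dual ℤ M)} {b : P.Base}
variable {K : Type u} [Field K] {A : Type u} [CommRing A] [Algebra K A] [PtGrp K A]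
  (E : PinCell P b K A)

lemma inC_iff_ideal {B : Type u} [CommRing B] [Algebra K B] {g : Pt K A B} :
    InC E g ↔ E.cellIdeal.map g.hom.toRingHom = ⊤ := E.mem_cell_iff g

lemma InC.map {B C : Type u} [CommRing B] [Algebra K B] [CommRing C] [Algebra K C] (φ : B →ₐ[K] C)
    {g : Pt K A B} (h : InC E g) : InC E (Pt.map φ g) := by
  obtain ⟨x, t, rfl⟩ := h
  exact ⟨_, _, E.cell_nat φ x t⟩

/-- membership in the big cell over an extension field -/
lemma inC_map_field {F F' : Type u} [Field F] [Algebra K F] [Field F'] [Algebra K F']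
    (φ : F →ₐ[K] F') {g : Pt K A F} : InC E (Pt.map φ g) ↔ InC E g := by
  refine ⟨fun h => ?_, InC.map E φ⟩
  rw [inC_iff_ideal] at h ⊢
  by_contra hne
  have h1 : E.cellIdeal.map g.hom.toRingHom = ⊥ := (Ideal.eq_bot_or_top _).resolve_right hne
  have h3 : E.cellIdeal.map (Pt.map φ g).hom.toRingHom =
      (E.cellIdeal.map g.hom.toRingHom).map (φ : F →+* F') := by
    rw [Ideal.map_map]; rfl
  rw [h3, h1, Ideal.map_bot] at h
  exact bot_ne_top h

/-- If the specialization of `g` at a point `φ` of a domain is in the big cell then `g` is in the big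
cell over a localization. -/
lemma exists_localization {O Q F : Type u} [CommRing O] [IsDomain O] [Algebra K O] [Field Q]
    [Algebra K Q] (ι : O →ₐ[K] Q) (hι : Function.Injective ι) [Field F] [Algebra K F]
    (φ : O →ₐ[K] F) {g : Pt K A O} (h : InC E (Pt.map φ g)) :
    ∃ (B : Type u) (_ : CommRing B) (_ : Algebra K B) (j : O →ₐ[K] B) (ι' : B →ₐ[K] Q)
      (φ' : B →ₐ[K] F), ι'.comp j = ι ∧ φ'.comp j = φ ∧ Function.Injective ι' ∧
        InC E (Pt.map j g) := by
  rw [inC_iff_ideal] at h
  obtain ⟨f, hf, hf0⟩ : ∃ f ∈ E.cellIdeal, φ (g.hom f) ≠ 0 := by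
    by_contra hcon
    push Not at hcon
    have h1 : E.cellIdeal.map (Pt.map φ g).hom.toRingHom ≤ ⊥ := by
      rw [Ideal.map_le_iff_le_comap]
      intro x hx
      exact hcon x hx
    rw [h] at h1
    exact bot_ne_top (top_le_iff.mp h1).symm.symm
  set s : O := g.hom f with hs
  have hs0 : s ≠ 0 := fun h0 => hf0 (by rw [h0, map_zero])
  have hu1 : ∀ y : Submonoid.powers s, IsUnit (ι y) := by
    rintro ⟨_, n, rfl⟩
    exact (IsUnit.mk0 _ (by
      rw [map_pow]
      exact pow_ne_zero _ fun h0 => hs0 (hι (by rw [h0, map_zero]))))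
  have hu2 : ∀ y : Submonoid.powers s, IsUnit (φ y) := by
    rintro ⟨_, n, rfl⟩
    exact (IsUnit.mk0 _ (by rw [map_pow]; exact pow_ne_zero _ hf0))
  refine ⟨Localization.Away s, inferInstance, inferInstance,
    IsScalarTower.toAlgHom K O (Localization.Away s),
    IsLocalization.liftAlgHom (M := Submonoid.powers s) hu1,
    IsLocalization.liftAlgHom (M := Submonoid.powers s) hu2, ?_, ?_, ?_, ?_⟩
  · ext x
    simp
  · ext x
    simp
  · have h2 : Function.Injective (IsLocalization.lift (M := Submonoid.powers s)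
      (S := Localization.Away s) (g := (ι : O →+* Q)) hu1) := by
      rw [IsLocalization.lift_injective_iff]
      intro x y
      have h3 : Function.Injective (algebraMap O (Localization.Away s)) :=
        IsLocalization.injective _ (powers_le_nonZeroDivisors_of_noZeroDivisors hs0)
      exact ⟨fun h4 => congrArg ι (h3 h4), fun h4 => congrArg _ (hι h4)⟩
    exact h2
  · rw [inC_iff_ideal, Ideal.eq_top_iff_one]
    have h4 : algebraMap O (Localization.Away s) s ∈ E.cellIdeal.map
        (Pt.map (IsScalarTower.toAlgHom K O (Localization.Away s)) g).hom.toRingHom :=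
      Ideal.mem_map_of_mem _ hf
    exact (Ideal.eq_top_iff_one _).mp (Ideal.eq_top_of_isUnit_mem _ h4
      (IsLocalization.Away.algebraMap_isUnit s))

/-- The function `h` vanishes on the complement of the translate by `n_l` of the big cell. -/
def Van (l : List idx) (h : KU b K) : Prop :=
  ∀ (F : Type u) [Field F] [Algebra K F] (x : PI b → F),
    ¬ InC E ((pu E x)⁻¹ * nw E F l) → MvPolynomial.aeval x h = 0

variable {a : idx} (ha : a ∈ b.support)

/-- the negative coordinate is unique -/
lemma coord_unique {B : Type u} [CommRing B] [Algebra K B] {c c' : idx → B} {β β' : Pt K A B}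
    (hβ : β ∈ Bor E B) (hβ' : β' ∈ Bor E B) (h : negP E c * β = negP E c' * β') {d : idx}
    (hd : ¬ b.IsPos d) : c d = c' d := by
  obtain ⟨_, ⟨y, rfl⟩, t, rfl⟩ := hβ
  obtain ⟨_, ⟨y', rfl⟩, t', rfl⟩ := hβ'
  rw [← mul_assoc, ← mul_assoc] at h
  exact (join_inj E h).1 d hd

include ha in
/-- **The numerator.** -/
theorem exists_N [Infinite K] {l : List idx} {h' : KU b K} (hVan : Van E l h')
    (hgen : ∃ x₀ : PI b → K, InC E ((pu E x₀)⁻¹ * nw E K l)) :
    ∃ N : KU b K,
      (∀ (F : Type u) [Field F] [Algebra K F] (x : PI b → F) (c : idx → F) (β : Pt K A F),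
        β ∈ Bor E F → (pu E x)⁻¹ * nw E F l = negP E c * β →
          MvPolynomial.aeval x N = MvPolynomial.aeval x h' * c (P.reflectionPerm a a)) ∧
      (∀ (F : Type u) [Field F] [Algebra K F] (x : PI b → F),
        (∀ t : F, ¬ InC E (E.uu a F t * ((pu E x)⁻¹ * nw E F l))) →
          MvPolynomial.aeval x N = 0) := by
  have hna := not_isPos_neg (b := b) ha
  have hpos := RootPairing.Base.isPos_of_mem_support ha
  let O := KU b K
  let Q := FractionRing O
  let ι : O →ₐ[K] Q := IsScalarTower.toAlgHom K O Q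
  have hι : Function.Injective ι := IsFractionRing.injective O Q
  obtain ⟨gO, hgO⟩ : ∃ gO : Pt K A O, gO = (pu E (MvPolynomial.X : PI b → O))⁻¹ * nw E O l :=
    ⟨_, rfl⟩
  have hmapx : ∀ {B : Type u} [CommRing B] [Algebra K B] (x : PI b → B),
      Pt.map (MvPolynomial.aeval (R := K) x) gO = (pu E x)⁻¹ * nw E B l := by
    intro B _ _ x
    rw [hgO, Pt.map_mul, Pt.map_inv, map_pu_X, nw_nat]
  set XQ : PI b → Q := fun c => ι (MvPolynomial.X c) with hXQ
  have hmapQ : Pt.map ι gO = (pu E XQ)⁻¹ * nw E Q l := by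
    rw [hgO, Pt.map_mul, Pt.map_inv, pu_nat, nw_nat]
  have haevalQ : ∀ p : O, MvPolynomial.aeval XQ p = ι p := by
    intro p
    have : MvPolynomial.aeval XQ = ι := by
      ext c
      simp [hXQ]
    rw [this]
  -- the generic point is in the cell
  have hQ : InC E (Pt.map ι gO) := by
    obtain ⟨x₀, hx₀⟩ := hgen
    obtain ⟨B, _, _, j, ι', φ', h1, h2, h3, h4⟩ := exists_localization E ι hι
      (MvPolynomial.aeval (R := K) x₀) (g := gO) (by rw [hmapx]; exact hx₀)
    have := InC.map E ι' h4
    rwa [Pt.map_map, h1] at this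
  obtain ⟨_, ⟨cQ, rfl⟩, βQ, hβQ, hQeq⟩ := (inC_iff E).mp hQ
  set z : Q := cQ (P.reflectionPerm a a) with hz
  -- specialization
  have hspec : ∀ N : O, ι N = ι h' * z → ∀ (F : Type u) [Field F] [Algebra K F] (x : PI b → F)
      (c : idx → F) (β : Pt K A F), β ∈ Bor E F → (pu E x)⁻¹ * nw E F l = negP E c * β →
          MvPolynomial.aeval x N = MvPolynomial.aeval x h' * c (P.reflectionPerm a a) := by
    intro N hN F _ _ x c β hβ hx
    obtain ⟨B, _, _, j, ι', φ', h1, h2, h3, h4⟩ := exists_localization E ι hι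
      (MvPolynomial.aeval (R := K) x) (g := gO) (by
        rw [hmapx, hx, inC_iff]
        exact ⟨_, negP_mem_Um E c, β, hβ, rfl⟩)
    obtain ⟨_, ⟨cB, rfl⟩, βB, hβB, hB⟩ := (inC_iff E).mp h4
    have hBor : ∀ {C : Type u} [CommRing C] [Algebra K C] (ψ : B →ₐ[K] C),
        Pt.map ψ βB ∈ Bor E C := by
      intro C _ _ ψ
      obtain ⟨_, ⟨y, rfl⟩, t, hy⟩ := hβB
      refine ⟨posP E (fun c => ψ (y c)), posP_mem_Up E _, TPt.map ψ t, ?_⟩
      rw [hy, Pt.map_mul, E.i_nat]
      congr 1
      rw [posP, posP, Pt.map_list_prod, List.map_map]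
      congr 1
      apply List.map_congr_left
      intro c _
      simp [E.uu_nat]
    have hneg : ∀ {C : Type u} [CommRing C] [Algebra K C] (ψ : B →ₐ[K] C),
        Pt.map ψ (negP E cB) = negP E (fun c => ψ (cB c)) := by
      intro C _ _ ψ
      rw [negP, negP, Pt.map_list_prod, List.map_map]
      congr 1
      apply List.map_congr_left
      intro c _
      simp [E.uu_nat]
    have e1 : ι' (cB (P.reflectionPerm a a)) = z := by
      have h5 := congrArg (Pt.map ι') hB
      rw [Pt.map_map, h1, Pt.map_mul, hneg, hQeq] at h5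
      exact (coord_unique E hβQ (hBor ι') h5 hna).symm
    have e2 : φ' (cB (P.reflectionPerm a a)) = c (P.reflectionPerm a a) := by
      have h5 := congrArg (Pt.map φ') hB
      rw [Pt.map_map, h2, Pt.map_mul, hneg, hmapx, hx] at h5
      exact (coord_unique E hβ (hBor φ') h5 hna).symm
    have e3 : j N = j h' * cB (P.reflectionPerm a a) := by
      apply h3
      rw [map_mul, e1]
      have h6 : ∀ p, ι' (j p) = ι p := fun p => DFunLike.congr_fun h1 p
      rw [h6, h6, hN]
    have h7 : ∀ p, φ' (j p) = MvPolynomial.aeval x p := fun p => DFunLike.congr_fun h2 p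
    rw [← h7, ← h7, e3, map_mul, e2]
  by_cases hz0 : z = 0
  · refine ⟨0, hspec 0 (by rw [hz0, map_zero, mul_zero]), fun F _ _ x _ => map_zero _⟩
  · obtain ⟨ξ, hξ⟩ := exists_trans ha E
    let ξ' : PI b → Polynomial O := ξ
    let H : Polynomial O := MvPolynomial.aeval (R := K) ξ' h'
    have hH : ∀ {B : Type u} [CommRing B] [Algebra K B] (x : PI b → B) (t : B),
        Polynomial.eval₂ (MvPolynomial.aeval (R := K) x : O →+* B) t H =
          MvPolynomial.aeval (fun c => Polynomial.eval₂
            (MvPolynomial.aeval (R := K) x : O →+* B) t (ξ c)) h' := by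
      intro B _ _ x t
      let φ : Polynomial O →ₐ[K] B :=
        Polynomial.eval₂AlgHom (MvPolynomial.aeval (R := K) x) t (fun a => mul_comm _ _)
      have h1 := MvPolynomial.comp_aeval_apply (R := K) (f := ξ') φ h'
      exact h1
    have hH0 : H.coeff 0 = h' := by
      have h1 := hH (MvPolynomial.X : PI b → O) 0
      have h2 := hξ (B := O) MvPolynomial.X 0
      rw [E.uu_zero, mul_one] at h2
      rw [← pu_inj E h2, MvPolynomial.aeval_X_left] at h1
      have h3 : Polynomial.eval₂ ((AlgHom.id K O : O →ₐ[K] O) : O →+* O) 0 H = H.coeff 0 := by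
        rw [Polynomial.eval₂_at_zero]
        rfl
      rw [← h3, h1]
      rfl
    have hroot : Polynomial.eval₂ (algebraMap O Q) z⁻¹ H = 0 := by
      have h1 := hH XQ z⁻¹
      have h2 : (MvPolynomial.aeval (R := K) XQ : O →+* Q) = algebraMap O Q :=
        RingHom.ext fun p => haevalQ p
      rw [h2] at h1
      rw [h1]
      have h3 := hξ (B := Q) XQ z⁻¹
      rw [h2] at h3
      apply hVan
      rw [← h3, mul_inv_rev, ← E.uu_neg, mul_assoc, ← hmapQ, hQeq, inC_uu_mul E ha _ _ hβQ, ← hz,
        not_not, neg_mul, inv_mul_cancel₀ hz0, add_neg_cancel]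
    obtain ⟨N, hN, hN'⟩ := IntNum.exists_num (O := O) (Q := Q) H hz0 hroot
    rw [hH0] at hN
    refine ⟨N, hspec N hN, fun F _ _ x hx => ?_⟩
    have hinf : Infinite F := Infinite.of_injective (algebraMap K F) (algebraMap K F).injective
    have h1 : H.map (MvPolynomial.aeval (R := K) x : O →+* F) = 0 := by
      apply Polynomial.funext
      intro t
      rw [Polynomial.eval_zero, Polynomial.eval_map, hH]
      apply hVan
      rw [← hξ x t, mul_inv_rev, ← E.uu_neg, mul_assoc]
      exact hx _
    exact hN' F (MvPolynomial.aeval (R := K) x : O →+* F) (fun j => by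
      rw [← Polynomial.coeff_map, h1, Polynomial.coeff_zero])

end Groth.Agent.RedSub.H662.Van
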